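import Cfsg.Agent.Lib.Classical.GeoThree.Singer.Points

/-!
# No homologies over the normaliser of a Singer cycle

The centre and axis of an involutory homology are related symmetrically, so the points of a class on a line
would lie on a conic and come in pairs.
-/

set_option autoImplicit false
set_option linter.unusedSectionVars false

open Module

namespace CfsgLib.Classical.GeoThree.Singer

variable {F K : Type*} [Field F] [Field K] [Algebra F K]

local notation "Tr" => Algebra.trace F K

/-- Centres and axes of the involutory homologies of a transvection-free group. -/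
structure HomConfig (P : K → K → Prop) : Prop where
  pair : ∀ {c a : K}, P c a → Tr (a * c) = 1
  equivar : ∀ {c a : K} (k : Kˣ), Algebra.norm F (k : K) = 1 → P c a → P ((k : K) * c) (a * (k : K)⁻¹)
  symm : ∀ {c a c' a' : K}, P c a → P c' a' → Tr (a * c') = 0 → Tr (a' * c) = 0

theorem pair_quot {G : Type*} [CommGroup G] (z u : G) : z⁻¹ * (z * z * u⁻¹) = (z⁻¹ * u)⁻¹ := by
  rw [mul_inv, inv_inv, mul_assoc, inv_mul_cancel_left]

theorem seven_values : ∀ x < 3, ∀ y < 9, x = 1 ∨ 8 < x + y ∨
    3 * (x ^ 2 + y ^ 2 + (8 - x - y) ^ 2) ≠ 78 := by decide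

variable [Finite K] {P : K → K → Prop}

theorem homConfig_false (hdim : finrank F K = 3) (hodd : Odd (Nat.card F)) (h : HomConfig (F := F) P) {c a : K}
    (hP : P c a) : False := by
  classical
  haveI : Finite F := Finite.of_injective _ (algebraMap F K).injective
  set q := Nat.card F with hqdef
  have hz : Tr (a * c) = 1 := h.pair hP
  have hz0 : a * c ≠ 0 := fun e => by rw [e, map_zero] at hz; exact one_ne_zero hz.symm
  set z : Kˣ := Units.mk0 _ hz0 with hzdef
  set Y := {g ∈ W F K | (mk z)⁻¹ * g ∈ H F K} with hY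
  -- the class lies on the conic
  have hpt : ∀ u : Kˣ, Tr (u : K) = 0 → (mk (F := F) z)⁻¹ * mk u ∈ H F K →
      Tr (a * c * (a * c) * ((u⁻¹ : Kˣ) : K)) = 0 := by
    intro u hu hcls
    obtain ⟨k, μ, hμ, hk, e⟩ := mem_H.1 hcls
    rw [hzdef, Units.val_mk0] at e
    have h1 : Tr (a * ((k : K) * c)) = 0 := by
      rw [e, map_smul, smul_eq_zero] at hu
      rw [mul_left_comm]
      exact hu.resolve_left hμ
    have h2 := h.symm hP (h.equivar k hk hP) h1
    rw [Units.val_inv_eq_inv_val, e]
    have : a * c * (a * c) * (μ • ((k : K) * (a * c)))⁻¹ = μ⁻¹ • (a * (k : K)⁻¹ * c) := by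
      have hk0 := k.ne_zero
      have hμK : algebraMap F K μ ≠ 0 := (map_ne_zero _).2 hμ
      simp only [Algebra.smul_def, map_inv₀]
      field_simp
    rw [this, map_smul, h2, smul_zero]
  have hle : num F K (mk z) ≤ 2 := by
    refine (Set.ncard_le_ncard ?_ (Set.toFinite _)).trans (ncard_conic_le hdim (mul_ne_zero hz0 hz0))
    rintro g ⟨⟨u, rfl, hu⟩, hcls⟩
    exact ⟨u, rfl, hu, hpt u hu hcls⟩
  -- the points of the class come in pairs
  have hne1 : num F K (mk z) ≠ 1 := by
    intro h1
    obtain ⟨g, hg⟩ := Set.ncard_eq_one.1 h1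
    have hgmem : g ∈ {g ∈ W F K | (mk z)⁻¹ * g ∈ H F K} := hg ▸ Set.mem_singleton g
    obtain ⟨⟨u, hug, hu⟩, hcls⟩ := hgmem
    subst hug
    set v : Kˣ := z * z * u⁻¹ with hv
    have hvW : Tr (v : K) = 0 := by
      rw [hv, Units.val_mul, Units.val_mul, hzdef, Units.val_mk0]; exact hpt u hu hcls
    have hvcls : (mk (F := F) z)⁻¹ * mk v ∈ H F K := by
      have e : (mk (F := F) z)⁻¹ * mk v = ((mk z)⁻¹ * mk u)⁻¹ := by
        rw [hv, map_mul, map_mul, map_inv]
        exact pair_quot _ _
      rw [e]
      exact inv_mem hcls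
    have hvg : mk (F := F) v ∈ {g ∈ W F K | (mk z)⁻¹ * g ∈ H F K} := ⟨mem_W.2 hvW, hvcls⟩
    rw [hg, Set.mem_singleton_iff] at hvg
    -- a square root of a scalar in a cubic extension is a scalar
    obtain ⟨μ, hμ, e⟩ := mk_eq_mk.1 hvg
    have hv' : (v : K) = a * c * (a * c) / (u : K) := by
      rw [hv, Units.val_mul, Units.val_mul, Units.val_inv_eq_inv_val, hzdef, Units.val_mk0, div_eq_mul_inv]
    set r : K := (u : K) / (a * c) with hr
    have hr2 : r * r = μ • (1 : K) := by
      have hu0 := u.ne_zero
      have e' : (u : K) * (u : K) = μ • (a * c * (a * c)) := by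
        have h' : (u : K) = μ • (a * c * (a * c) / (u : K)) := by rw [← hv']; exact e
        calc (u : K) * (u : K) = μ • (a * c * (a * c) / (u : K)) * (u : K) :=
              congrArg (· * (u : K)) h'
          _ = μ • (a * c * (a * c)) := by rw [smul_mul_assoc, div_mul_cancel₀ _ hu0]
      rw [hr, div_mul_div_comm, e', smul_div_assoc, div_self (mul_ne_zero hz0 hz0)]
    have hrF : ∃ ν : F, r = ν • 1 := by
      by_contra hno
      push Not at hno
      let S : Subalgebra F K := (Submodule.span F ({1, r} : Set K)).toSubalgebra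
        (Submodule.subset_span (Or.inl rfl)) fun x y hx hy => by
          obtain ⟨x0, x1, rfl⟩ := Submodule.mem_span_pair.1 hx
          obtain ⟨y0, y1, rfl⟩ := Submodule.mem_span_pair.1 hy
          rw [add_mul, mul_add, mul_add, smul_mul_smul_comm, smul_mul_smul_comm, smul_mul_smul_comm,
            smul_mul_smul_comm, one_mul, one_mul, mul_one, hr2, smul_smul]
          exact add_mem (add_mem (Submodule.smul_mem _ _ (Submodule.subset_span (Or.inl rfl)))
            (Submodule.smul_mem _ _ (Submodule.subset_span (Or.inr rfl))))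
            (add_mem (Submodule.smul_mem _ _ (Submodule.subset_span (Or.inr rfl)))
              (Submodule.smul_mem _ _ (Submodule.subset_span (Or.inl rfl))))
      have hli : LinearIndependent F ![(1 : K), r] :=
        (LinearIndependent.pair_iff' one_ne_zero).2 fun ν h => hno ν h.symm
      have h2 : finrank F S = 2 := by
        show finrank F (Submodule.span F ({1, r} : Set K)) = 2
        rw [show ({1, r} : Set K) = Set.range ![(1 : K), r] by simp [Set.pair_comm], finrank_span_eq_card hli,
          Fintype.card_fin]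
      haveI := Subalgebra.isSimpleOrder_of_finrank_prime F K (hdim ▸ Nat.prime_three)
      rcases eq_bot_or_eq_top S with h' | h'
      · rw [h', Subalgebra.finrank_bot] at h2; omega
      · rw [h', Subalgebra.topEquiv.toLinearEquiv.finrank_eq, hdim] at h2; omega
    obtain ⟨ν, hν⟩ := hrF
    rw [hr, div_eq_iff hz0, smul_mul_assoc, one_mul] at hν
    rw [hν, map_smul, hz, smul_eq_mul, mul_one] at hu
    exact u.ne_zero (by rw [hν, hu, zero_smul])
  -- no class of a line is so small
  have h2q : 2 ≤ q := Finite.one_lt_card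
  by_cases hc : Nat.gcd 3 (q - 1) = 1
  · rw [num_eq_of_coprime hdim hc, ← hqdef] at hle; omega
  obtain ⟨b, d, hsum, hsq⟩ := num_cases hdim hc (mk z)
  rw [← hqdef] at hsum hsq
  have h3 : 3 ∣ q - 1 := by
    rcases (Nat.dvd_prime Nat.prime_three).1 (Nat.gcd_dvd_left 3 (q - 1)) with e | e
    · exact absurd e hc
    · exact e ▸ Nat.gcd_dvd_right _ _
  generalize num F K (mk z) = n at *
  obtain ⟨i, hi⟩ := hodd
  have hq11 : q ≤ 11 := by
    by_contra h12
    push Not at h12
    have hbd : n + b + d = q + 1 := hsum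
    interval_cases n <;> nlinarith [sq_nonneg ((b : ℤ) - d)]
  have hq7 : q = 7 := by omega
  rw [hq7] at hsum hsq
  obtain rfl : d = 8 - n - b := by omega
  rcases seven_values n (by omega) b (by omega) with e | e | e <;> first | exact hne1 e | exact e hsq | omega

end CfsgLib.Classical.GeoThree.Singer
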