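import Cfsg.Agent.Lib.Classical.GeoThree.Singer.Transv
import Cfsg.Agent.Lib.Classical.GeoThree.Singer.Homology
import Cfsg.Agent.Lib.Classical.GeoThree.RootFull
import Cfsg.Agent.Lib.Classical.GeoThree.C6.Lin

/-!
# A group containing the elements of norm one of a cubic extension
-/

set_option autoImplicit false
set_option linter.unusedSectionVars false
set_option linter.style.haveILetI false
set_option backward.isDefEq.respectTransparency false

open Matrix Module

namespace CfsgLib.Classical.GeoThree.Singer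

open Cfsg.Geo (specialLinear ActsIrreducibly matrixSet)

/-- A cubic extension acting on `F³`, inside whose normaliser sits `M`. -/
structure Frame (F K : Type*) [Field F] [Field K] [Algebra F K] (M : Subgroup (GL (Fin 3) F)) where
  ρ : K →ₐ[F] Matrix (Fin 3) (Fin 3) F
  Φ : K ≃ₗ[F] (Fin 3 → F)
  act : ∀ k x : K, ρ k *ᵥ Φ x = Φ (k * x)
  mem : ∀ (k : Kˣ), Algebra.norm F (k : K) = 1 → Units.map (ρ : K →* Matrix (Fin 3) (Fin 3) F) k ∈ M

variable {F K : Type*} [Field F] [Field K] [Algebra F K] {M : Subgroup (GL (Fin 3) F)}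

local notation "Tr" => Algebra.trace F K
local notation "M3" => Matrix (Fin 3) (Fin 3) F
local notation "G3" => GL (Fin 3) F

variable (D : Frame F K M)
include D

/-- The functional `x ↦ Tr (a x)` in coordinates. -/
noncomputable def Frame.dual (a : K) : Fin 3 → F := fun i => Tr (a * D.Φ.symm (Pi.single i 1))

theorem Frame.dual_dot (a x : K) : D.dual a ⬝ᵥ D.Φ x = Tr (a * x) := by
  have h : x = ∑ i, (D.Φ x) i • D.Φ.symm (Pi.single i 1) := by
    apply D.Φ.injective
    rw [map_sum]
    simp only [map_smul, LinearEquiv.apply_symm_apply]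
    exact (pi_eq_sum_univ' (D.Φ x))
  conv_rhs => rw [h, Finset.mul_sum, map_sum]
  refine Finset.sum_congr rfl fun i _ => ?_
  rw [mul_smul_comm, map_smul, smul_eq_mul, mul_comm]
  rfl

/-- `g` is the transvection `x ↦ x + Tr (a x) w`. -/
def Frame.IsT (w a : K) (g : G3) : Prop := ∀ x : K, (g : M3) *ᵥ D.Φ x = D.Φ (x + Tr (a * x) • w)

/-- The axes of the transvections of `M` with centre `w`. -/
def Frame.axes (w : K) : AddSubgroup K where
  carrier := {a | Tr (a * w) = 0 ∧ ∃ g ∈ M, D.IsT w a g}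
  zero_mem' := ⟨by rw [zero_mul, map_zero], 1, M.one_mem, fun x => by simp⟩
  add_mem' := by
    rintro a b ⟨ha, g, hg, hga⟩ ⟨hb, h, hh, hhb⟩
    refine ⟨by rw [add_mul, map_add, ha, hb, add_zero], g * h, M.mul_mem hg hh, fun x => ?_⟩
    rw [Units.val_mul, ← mulVec_mulVec, hhb, hga]
    congr 1
    rw [mul_add, mul_smul_comm, map_add, map_smul, ha, smul_zero, add_zero, add_mul, map_add, add_smul]
    abel
  neg_mem' := by
    rintro a ⟨ha, g, hg, hga⟩
    refine ⟨by rw [neg_mul, map_neg, ha, neg_zero], g⁻¹, M.inv_mem hg, fun x => ?_⟩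
    have h := congrArg (fun v => ((g⁻¹ : G3) : M3) *ᵥ v) (hga (x + Tr (-a * x) • w))
    simp only [mulVec_mulVec, ← Units.val_mul, inv_mul_cancel, Units.val_one, one_mulVec] at h
    rw [h]
    congr 2
    rw [mul_add, mul_smul_comm, map_add, map_smul, ha, smul_zero, add_zero, neg_mul, map_neg, neg_smul]
    abel

theorem Frame.isT_conj {w a v b : K} {g h : G3} (hga : D.IsT w a g) (ha : Tr (a * w) = 0) (hhb : D.IsT v b h) :
    D.IsT (v + Tr (a * v) • w) (b - Tr (b * w) • a) (g * h * g⁻¹) := by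
  intro x
  have hinv : ((g⁻¹ : G3) : M3) *ᵥ D.Φ x = D.Φ (x - Tr (a * x) • w) := by
    have h := congrArg (fun v => ((g⁻¹ : G3) : M3) *ᵥ v) (hga (x - Tr (a * x) • w))
    simp only [mulVec_mulVec, ← Units.val_mul, inv_mul_cancel, Units.val_one, one_mulVec] at h
    rw [h]
    congr 2
    rw [mul_sub, mul_smul_comm, map_sub, map_smul, ha, smul_zero, sub_zero]
    abel
  rw [Units.val_mul, Units.val_mul, ← mulVec_mulVec, ← mulVec_mulVec, hinv, hhb, hga]
  congr 1
  simp only [mul_add, mul_sub, sub_mul, mul_smul_comm, smul_mul_assoc, map_add, map_sub, map_smul, ha,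
    smul_eq_mul, mul_zero, sub_zero]
  module

/-- The element of norm one attached to `k`. -/
noncomputable def Frame.toGL (k : Kˣ) : G3 := Units.map (D.ρ : K →* M3) k

theorem Frame.toGL_mulVec (k : Kˣ) (x : K) : (D.toGL k : M3) *ᵥ D.Φ x = D.Φ ((k : K) * x) := D.act k x

theorem Frame.isT_k {w a : K} {g : G3} (hga : D.IsT w a g) (k : Kˣ) :
    D.IsT ((k : K) * w) (a * (k : K)⁻¹) (D.toGL k * g * (D.toGL k)⁻¹) := by
  intro x
  rw [Units.val_mul, Units.val_mul, show (D.toGL k)⁻¹ = D.toGL k⁻¹ from (map_inv (Units.map (D.ρ : K →* M3)) k).symm,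
    ← mulVec_mulVec, ← mulVec_mulVec, D.toGL_mulVec, hga, D.toGL_mulVec]
  congr 1
  rw [mul_add, Units.val_inv_eq_inv_val, ← mul_assoc, mul_inv_cancel₀ k.ne_zero, one_mul, mul_smul_comm,
    ← mul_assoc a]

theorem Frame.mulVec_ext {A B : M3} (h : ∀ x, A *ᵥ D.Φ x = B *ᵥ D.Φ x) : A = B :=
  Matrix.ext_iff_mulVec.2 fun v => by rw [← D.Φ.apply_symm_apply v]; exact h _

theorem Frame.isT_unique {w a : K} {g h : G3} (hg : D.IsT w a g) (hh : D.IsT w a h) : g = h :=
  Units.ext (D.mulVec_ext fun x => (hg x).trans (hh x).symm)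

variable [Finite K]

omit D in
theorem exists_nonscalar_norm_one (hdim : finrank F K = 3) :
    ∃ k : Kˣ, Algebra.norm F (k : K) = 1 ∧ ∀ μ : F, (k : K) ≠ μ • 1 := by
  by_contra hall
  push Not at hall
  haveI : Finite F := Finite.of_injective _ (algebraMap F K).injective
  obtain ⟨hpt, hH, hidx⟩ := card_facts (F := F) (K := K) hdim
  have hbot : H F K = ⊥ := by
    rw [H, Subgroup.map_eq_bot_iff]
    intro k hk
    obtain ⟨μ, hμ⟩ := hall k (congrArg Units.val hk)
    rw [MonoidHom.mem_ker, ← map_one mk, eq_comm]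
    exact mk_eq_mk.2 ⟨μ, fun h => k.ne_zero (by rw [hμ, h, zero_smul]), by rw [Units.val_one]; exact hμ⟩
  rw [hbot, Subgroup.card_bot, one_mul] at hH
  have h2 : 2 ≤ Nat.card F := Finite.one_lt_card
  have := Nat.le_of_dvd (by norm_num) (Nat.gcd_dvd_left 3 (Nat.card F - 1))
  nlinarith

/-- Such a group is irreducible. -/
theorem Frame.irreducible (hdim : finrank F K = 3) : ActsIrreducibly (matrixSet M) := by
  rw [AschPrime.irr_iff]
  intro U hU
  let U' := U.comap D.Φ.toLinearMap
  let S : Subalgebra F K :=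
    { carrier := {k | ∀ x ∈ U', k * x ∈ U'}
      mul_mem' := fun ha hb x hx => by rw [mul_assoc]; exact ha _ (hb x hx)
      add_mem' := fun ha hb x hx => by rw [add_mul]; exact U'.add_mem (ha x hx) (hb x hx)
      algebraMap_mem' := fun c x hx => by rw [← Algebra.smul_def]; exact U'.smul_mem c hx }
  obtain ⟨k, hk, hns⟩ := exists_nonscalar_norm_one (F := F) (K := K) hdim
  have hkS : (k : K) ∈ S := fun x hx => by
    show D.Φ ((k : K) * x) ∈ U
    rw [← D.toGL_mulVec]
    exact hU _ ⟨_, D.mem k hk, rfl⟩ _ hx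
  haveI := Subalgebra.isSimpleOrder_of_finrank_prime F K (hdim ▸ Nat.prime_three)
  have hS : S = ⊤ := (eq_bot_or_eq_top S).resolve_left fun h => by
    rw [h, Algebra.mem_bot] at hkS
    obtain ⟨μ, hμ⟩ := hkS
    exact hns μ (by rw [← hμ, Algebra.algebraMap_eq_smul_one])
  by_cases hbot : U = ⊥
  · exact .inl hbot
  obtain ⟨v, hv, hv0⟩ := Submodule.exists_mem_ne_zero_of_ne_bot hbot
  refine .inr (eq_top_iff.2 fun u _ => ?_)
  obtain ⟨x, rfl⟩ := D.Φ.surjective v
  obtain ⟨y, rfl⟩ := D.Φ.surjective u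
  have hx : x ≠ 0 := fun h => hv0 (by rw [h, map_zero])
  have := (hS ▸ Algebra.mem_top : y * x⁻¹ ∈ S) x hv
  rwa [inv_mul_cancel_right₀ hx] at this

variable [Fintype F]

theorem Frame.config (hdim : finrank F K = 3) (hsl : ¬ specialLinear (Fin 3) F ≤ M) :
    Config (F := F) D.axes where
  perp ha := ha.1
  equivar := fun {w a} k hk ha => by
    obtain ⟨hp, g, hg, hga⟩ := ha
    refine ⟨?_, _, M.mul_mem (M.mul_mem (D.mem k hk) hg) (M.inv_mem (D.mem k hk)), D.isT_k hga k⟩
    rw [mul_assoc, inv_mul_cancel_left₀ k.ne_zero]; exact hp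
  scale := fun {w a μ} hμ ha => by
    obtain ⟨hp, g, hg, hga⟩ := ha
    refine ⟨by rw [smul_mul_smul_comm, inv_mul_cancel₀ hμ, one_smul]; exact hp, g, hg, fun x => ?_⟩
    rw [hga, smul_mul_assoc, map_smul, smul_smul, smul_eq_mul, mul_comm μ⁻¹, mul_assoc, inv_mul_cancel₀ hμ,
      mul_one]
  comm := fun {w v a b} ha hb hbw => by
    obtain ⟨hp, g, hg, hga⟩ := ha
    obtain ⟨hq, h, hh, hhb⟩ := hb
    refine ⟨by rw [smul_mul_assoc, map_smul, hbw, smul_zero], h⁻¹ * (g * h * g⁻¹),
      M.mul_mem (M.inv_mem hh) (M.mul_mem (M.mul_mem hg hh) (M.inv_mem hg)), fun x => ?_⟩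
    have hc := D.isT_conj hga hp hhb
    rw [hbw, zero_smul, sub_zero] at hc
    have hinv : ∀ y : K, ((h⁻¹ : G3) : M3) *ᵥ D.Φ y = D.Φ (y - Tr (b * y) • v) := fun y => by
      have e := congrArg (fun v => ((h⁻¹ : G3) : M3) *ᵥ v) (hhb (y - Tr (b * y) • v))
      simp only [mulVec_mulVec, ← Units.val_mul, inv_mul_cancel, Units.val_one, one_mulVec] at e
      rw [e]
      congr 2
      rw [mul_sub, mul_smul_comm, map_sub, map_smul, hq, smul_zero, sub_zero]
      abel
    rw [Units.val_mul h⁻¹, ← mulVec_mulVec, hc, hinv]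
    congr 1
    simp only [mul_add, mul_smul_comm, smul_mul_assoc, map_add, map_smul, hq, hbw, smul_eq_mul, mul_zero,
      add_zero]
    module
  conj := fun {w v a b} ha hb => by
    obtain ⟨hp, g, hg, hga⟩ := ha
    obtain ⟨hq, h, hh, hhb⟩ := hb
    refine ⟨?_, _, M.mul_mem (M.mul_mem hg hh) (M.inv_mem hg), D.isT_conj hga hp hhb⟩
    simp only [mul_add, sub_mul, mul_smul_comm, smul_mul_assoc, map_add, map_sub, map_smul, hp, hq,
      smul_eq_mul, mul_zero, sub_zero, zero_sub]
    ring
  noFull := fun {w a} hw ha0 ha => by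
    by_contra hall
    push Not at hall
    have hdual : D.dual a ≠ 0 := fun h => ha0 (trace_mul_nondeg (F := F) fun y => by
      rw [← D.dual_dot, h, zero_dotProduct])
    refine hsl (sl_le_of_root (D.irreducible hdim) (a := D.Φ w) (φ := D.dual a)
      (fun h => hw (D.Φ.injective (by rw [h, map_zero]))) hdual ⟨by rw [D.dual_dot]; exact ha.1, fun c => ?_⟩)
    obtain ⟨-, g, hg, hga⟩ := hall c
    convert hg using 1
    refine Units.ext (D.mulVec_ext fun x => ?_)
    rw [trGL_mulVec, D.dual_dot, hga, map_add, map_smul, smul_mul_assoc, map_smul, smul_eq_mul, smul_smul,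
      mul_comm c]

theorem Frame.dual_surjective (hdim : finrank F K = 3) (f : Fin 3 → F) : ∃ a, D.dual a = f := by
  let T : K →ₗ[F] (Fin 3 → F) :=
    { toFun := D.dual
      map_add' := fun a b => funext fun i => by simp [Frame.dual, add_mul]
      map_smul' := fun c a => funext fun i => by simp [Frame.dual, smul_mul_assoc] }
  have hT : Function.Injective T := by
    rw [← LinearMap.ker_eq_bot, Submodule.eq_bot_iff]
    intro a ha
    refine trace_mul_nondeg (F := F) fun y => ?_
    rw [← D.dual_dot, show D.dual a = 0 from ha, zero_dotProduct]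
  haveI : Module.Finite F K := Module.finite_of_finrank_pos (by rw [hdim]; norm_num)
  exact ((LinearMap.injective_iff_surjective_of_finrank_eq_finrank (by
    rw [hdim, finrank_fin_fun])).1 hT) f

/-- A group not containing `SL₃` has no transvections, unless `q = 4`. -/
theorem Frame.noTransv (hdim : finrank F K = 3) (hsl : ¬ specialLinear (Fin 3) F ≤ M)
    (hq : Nat.card F ≠ 4) : C6.NoTransv M := by
  intro v f hperp hmem
  by_contra hne
  push Not at hne
  obtain ⟨w, rfl⟩ := D.Φ.surjective v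
  obtain ⟨a, rfl⟩ := D.dual_surjective hdim f
  have hw : w ≠ 0 := fun h => hne.1 (by rw [h, map_zero])
  have hperp' : Tr (a * w) = 0 := by rw [← D.dual_dot]; exact hperp
  have ha : a ∈ D.axes w := ⟨hperp', _, hmem, fun x => by
    rw [trGL_mulVec, D.dual_dot, map_add, map_smul]⟩
  have ha0 : a ≠ 0 := fun h => hne.2 (by funext i; simp [Frame.dual, h])
  refine config_false hdim (D.config hdim hsl) hq (w := Units.mk0 w hw) fun hB => ?_
  have hm : a * w ∈ Bset D.axes ((Units.mk0 w hw : Kˣ) : K) := mem_Bset.2 ⟨a, ha, rfl⟩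
  rw [hB, AddSubgroup.mem_bot] at hm
  exact mul_ne_zero ha0 hw hm

omit D in
/-- In odd characteristic, an involution of determinant one gives a homology. -/
theorem exists_homology {g : G3} (h2 : (2 : F) ≠ 0) (hdet : (g : M3).det = 1) (hgg : g * g = 1) (hg1 : g ≠ 1) :
    ∃ u φ : Fin 3 → F, φ ⬝ᵥ u = 1 ∧ (g : M3) = (2 : F) • vecMulVec u φ - 1 := by
  set A : M3 := (g : M3) with hA
  have hAA : A * A = 1 := by rw [hA, ← Units.val_mul, hgg, Units.val_one]
  have hadj : A.adjugate = A := by
    have h := congrArg (fun X => A * X) (Matrix.mul_adjugate A)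
    simp only [hdet, one_smul, ← mul_assoc, hAA, one_mul, mul_one] at h
    exact h
  have hCH : A * A * A - A.trace • (A * A) + A.adjugate.trace • A - A.det • 1 = 0 := by
    ext i j
    fin_cases i <;> fin_cases j <;>
      simp [Matrix.mul_apply, Fin.sum_univ_three, Matrix.trace_fin_three, Matrix.adjugate_fin_three,
        Matrix.det_fin_three] <;> ring
  rw [hadj, hAA, one_mul, hdet] at hCH
  have hfac : (1 + A.trace) • (A - 1) = 0 := by
    rw [← hCH]; module
  have ht : 1 + A.trace = 0 := (smul_eq_zero.1 hfac).resolve_right fun h => hg1 (Units.ext (sub_eq_zero.1 h))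
  set P : M3 := (2 : F)⁻¹ • (1 + A) with hP
  have hPP : P * P = P := by
    rw [hP, smul_mul_smul_comm, add_mul, one_mul, mul_add, mul_one, hAA]
    match_scalars <;> field_simp <;> ring
  have htr : P.trace = 1 := by
    have : A.trace = -1 := by linear_combination ht
    rw [hP, trace_smul, trace_add, trace_one, this, Fintype.card_fin, smul_eq_mul]
    push_cast
    field_simp
    ring
  have hproj : LinearMap.IsProj (LinearMap.range P.toLin') P.toLin' :=
    ⟨fun x => LinearMap.mem_range_self _ x, fun x hx => by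
      obtain ⟨y, rfl⟩ := hx
      rw [Matrix.toLin'_apply, Matrix.toLin'_apply, mulVec_mulVec, hPP]⟩
  have htr' := hproj.trace
  rw [Matrix.trace_toLin'_eq, htr] at htr'
  have hrank : P.rank ≤ 1 := by
    change finrank F (LinearMap.range P.toLin') ≤ 1
    have hle : finrank F (LinearMap.range P.toLin') ≤ 3 :=
      (Submodule.finrank_le _).trans (by rw [finrank_fin_fun])
    by_contra hlt
    push Not at hlt
    interval_cases hr : finrank F (LinearMap.range P.toLin')
    · exact one_ne_zero (α := F) (by linear_combination -htr')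
    · exact h2 (by linear_combination -htr')
  obtain ⟨u, φ, hu⟩ := C6.exists_vecMulVec hrank
  refine ⟨u, φ, ?_, ?_⟩
  · rw [← htr, hu, trace_vecMulVec, dotProduct_comm]
  · rw [← hu, hP, smul_smul, mul_inv_cancel₀ h2, one_smul, add_sub_cancel_left]

/-- The involutory homologies of `M`. -/
def Frame.homs (c a : K) : Prop :=
  Tr (a * c) = 1 ∧ ∃ g ∈ M, ∀ x : K, (g : M3) *ᵥ D.Φ x = D.Φ ((2 * Tr (a * x)) • c - x)

theorem Frame.homConfig (hno : C6.NoTransv M) (h2 : (2 : F) ≠ 0) : HomConfig (F := F) D.homs where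
  pair h := h.1
  equivar := fun {c a} k hk h => by
    obtain ⟨hp, g, hg, hga⟩ := h
    refine ⟨by rw [mul_assoc, inv_mul_cancel_left₀ k.ne_zero]; exact hp, _,
      M.mul_mem (M.mul_mem (D.mem k hk) hg) (M.inv_mem (D.mem k hk)), fun x => ?_⟩
    show ((D.toGL k * g * (D.toGL k)⁻¹ : G3) : M3) *ᵥ D.Φ x = _
    rw [Units.val_mul, Units.val_mul, show (D.toGL k)⁻¹ = D.toGL k⁻¹ from (map_inv (Units.map (D.ρ : K →* M3)) k).symm,
      ← mulVec_mulVec, ← mulVec_mulVec, D.toGL_mulVec, hga, D.toGL_mulVec]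
    congr 1
    rw [mul_sub, Units.val_inv_eq_inv_val, ← mul_assoc (k : K), mul_inv_cancel₀ k.ne_zero, one_mul, mul_smul_comm,
      ← mul_assoc a]
  symm := fun {c a c' a'} h h' hperp => by
    obtain ⟨hp, g, hg, hga⟩ := h
    obtain ⟨hp', g', hg', hga'⟩ := h'
    set τ := Tr (a' * c)
    -- conjugating the second homology by the first keeps its centre
    have hval : ∀ x : K, ((g * g' * g * g' : G3) : M3) *ᵥ D.Φ x =
        D.Φ (x + (4 * τ * Tr (a * x)) • c') := by
      intro x
      rw [Units.val_mul, Units.val_mul, Units.val_mul, ← mulVec_mulVec, ← mulVec_mulVec, ← mulVec_mulVec,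
        hga', hga, hga', hga]
      congr 1
      simp only [mul_sub, mul_smul_comm, map_sub, map_smul, hp, hp', hperp, smul_eq_mul, mul_one, mul_zero, τ]
      module
    have hperp2 : D.dual ((4 * τ) • a) ⬝ᵥ D.Φ c' = 0 := by
      rw [D.dual_dot, smul_mul_assoc, map_smul, hperp, smul_zero]
    have hmem : trGL (D.Φ c') (D.dual ((4 * τ) • a)) hperp2 ∈ M := by
      convert M.mul_mem (M.mul_mem (M.mul_mem hg hg') hg) hg' using 1
      refine Units.ext (D.mulVec_ext fun x => ?_)
      rw [trGL_mulVec, D.dual_dot, hval, map_add, map_smul, smul_mul_assoc, map_smul, smul_eq_mul]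
    have hc' : D.Φ c' ≠ 0 := fun h => by
      rw [D.Φ.map_eq_zero_iff] at h
      rw [h, mul_zero, map_zero] at hp'
      exact zero_ne_one hp'
    have hd := (hno _ _ _ hmem).resolve_left hc'
    have h0 : (4 * τ) * Tr (a * c) = 0 := by
      rw [← smul_eq_mul, ← map_smul, ← smul_mul_assoc, ← D.dual_dot, hd, zero_dotProduct]
    rw [hp, mul_one, mul_eq_zero] at h0
    refine h0.resolve_left fun h4 => ?_
    rcases mul_eq_zero.1 (show (2 : F) * 2 = 0 by linear_combination h4) with e | e <;> exact h2 e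

/-- A transvection-free `M` has odd order. -/
theorem Frame.odd_card (hdim : finrank F K = 3) (hno : C6.NoTransv M)
    (hMs : M ≤ specialLinear (Fin 3) F) : Odd (Nat.card M) := by
  rw [← Nat.not_even_iff_odd, even_iff_two_dvd]
  intro hdvd
  haveI : Fact (Nat.Prime 2) := ⟨Nat.prime_two⟩
  obtain ⟨⟨g, hgM⟩, hord⟩ := exists_prime_orderOf_dvd_card' 2 hdvd
  rw [Subgroup.orderOf_mk] at hord
  have hgg : g * g = 1 := by
    rw [← pow_two, ← hord, pow_orderOf_eq_one]
  have hg1 : g ≠ 1 := fun h => by rw [h, orderOf_one] at hord; norm_num at hord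
  have hdet : (g : M3).det = 1 := by
    have h := congrArg Units.val (MonoidHom.mem_ker.1 (hMs hgM))
    rwa [Matrix.GeneralLinearGroup.val_det_apply, Units.val_one] at h
  by_cases h2 : (2 : F) = 0
  · -- the involution is a transvection
    set N : M3 := (g : M3) - 1 with hN
    have hNN : N * N = 0 := by
      have hA : (g : M3) * (g : M3) = 1 := by rw [← Units.val_mul, hgg, Units.val_one]
      have e : N * N = (2 : F) • (1 - (g : M3)) := by
        rw [hN, sub_mul, mul_sub, mul_sub, hA, mul_one, one_mul, one_mul]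
        module
      rw [e, h2, zero_smul]
    have hrank : N.rank ≤ 1 := by
      have hle : LinearMap.range N.mulVecLin ≤ LinearMap.ker N.mulVecLin := by
        rintro _ ⟨x, rfl⟩
        rw [LinearMap.mem_ker, mulVecLin_apply, mulVecLin_apply, mulVec_mulVec, hNN, zero_mulVec]
      have h1 := Submodule.finrank_mono hle
      have h3 := LinearMap.finrank_range_add_finrank_ker N.mulVecLin
      rw [finrank_fin_fun] at h3
      change finrank F (LinearMap.range N.mulVecLin) ≤ 1
      omega
    obtain ⟨u, φ, hu⟩ := C6.exists_vecMulVec hrank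
    have hu0 : u ≠ 0 := fun h => hg1 (Units.ext (sub_eq_zero.1 (show N = 0 by rw [hu, h, zero_vecMulVec])))
    have hφ0 : φ ≠ 0 := fun h => hg1 (Units.ext (sub_eq_zero.1 (show N = 0 by rw [hu, h, vecMulVec_zero])))
    have hperp : φ ⬝ᵥ u = 0 := by
      rw [hu, vecMulVec_mul_vecMulVec, vecMulVec_smul, smul_eq_zero] at hNN
      refine hNN.resolve_right fun h => ?_
      rcases vecMulVec_eq_zero.1 h with e | e
      exacts [hu0 e, hφ0 e]
    have hmem : trGL u φ hperp ∈ M := by
      convert hgM using 1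
      refine Units.ext (Matrix.ext_iff_mulVec.2 fun x => ?_)
      rw [trGL_mulVec, ← add_sub_cancel (1 : M3) (g : M3), ← hN, hu, add_mulVec, one_mulVec, vecMulVec_mulVec,
        op_smul_eq_smul]
    rcases hno u φ hperp hmem with e | e
    exacts [hu0 e, hφ0 e]
  · obtain ⟨u, φ, hφu, hg⟩ := exists_homology h2 hdet hgg hg1
    obtain ⟨c, rfl⟩ := D.Φ.surjective u
    obtain ⟨a, rfl⟩ := D.dual_surjective hdim φ
    rw [D.dual_dot] at hφu
    have hhom : D.homs c a := ⟨hφu, g, hgM, fun x => by
      rw [hg, sub_mulVec, one_mulVec, smul_mulVec, vecMulVec_mulVec, op_smul_eq_smul, D.dual_dot, smul_smul,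
        map_sub, map_smul]⟩
    have hodd : Odd (Nat.card F) := by
      rw [Nat.card_eq_fintype_card, Nat.odd_iff]
      refine FiniteField.odd_card_of_char_ne_two fun h => h2 ?_
      rw [show (2 : F) = ((ringChar F : ℕ) : F) by rw [h, Nat.cast_ofNat], ringChar.Nat.cast_ringChar]
    exact homConfig_false hdim hodd (D.homConfig hno h2) hhom

end CfsgLib.Classical.GeoThree.Singer
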