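import Cfsg.Agent.Lib.Classical.GeoThree.Singer.Odd
import Cfsg.Agent.Lib.Classical.AschPrime.Proper

/-!
# The normaliser of a Singer cycle is maximal in `SL₃(q)`, `q ≠ 4`
-/

set_option autoImplicit false
set_option linter.unusedSectionVars false
set_option linter.style.haveILetI false
set_option backward.isDefEq.respectTransparency false

open Matrix Module

namespace CfsgLib.Classical.GeoThree.Singer

open Cfsg.Geo

variable {F : Type*} [Field F] [Fintype F]

local notation "M3" => Matrix (Fin 3) (Fin 3) F
local notation "G3" => GL (Fin 3) F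

/-- A group between the normaliser of a cubic field and `SL₃` is one of them. -/
theorem sl_le_or_le_normalizer (hq : Fintype.card F ≠ 4) {Ks : Subalgebra F M3} (hK : IsFieldSubalgebra 3 Ks)
    {M : Subgroup G3} (hM : subalgebraNormalizer Ks ⊓ specialLinear (Fin 3) F ≤ M)
    (hMs : M ≤ specialLinear (Fin 3) F) :
    specialLinear (Fin 3) F ≤ M ∨ M ≤ subalgebraNormalizer Ks := by
  classical
  have hfield : IsField Ks := ⟨⟨0, 1, zero_ne_one⟩, fun a b => Subtype.ext (hK.comm _ a.2 _ b.2),
    fun {a} ha => by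
      obtain ⟨y, hy, h⟩ := hK.inv a.1 a.2 fun h => ha (Subtype.ext h)
      exact ⟨⟨y, hy⟩, Subtype.ext h⟩⟩
  letI : Field Ks := hfield.toField
  haveI : Finite Ks := Finite.of_injective _ Subtype.val_injective
  have hdim : finrank F Ks = 3 := hK.finrank_eq
  haveI : FiniteDimensional F Ks := Module.finite_of_finrank_pos (by rw [hdim]; norm_num)
  let v : Fin 3 → F := Pi.single 0 1
  let L : Ks →ₗ[F] (Fin 3 → F) :=
    { toFun := fun k => k.1 *ᵥ v
      map_add' := fun a b => add_mulVec a.1 b.1 v
      map_smul' := fun c a => smul_mulVec c a.1 v }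
  have hL : Function.Injective L := by
    rw [← LinearMap.ker_eq_bot, Submodule.eq_bot_iff]
    intro k hk
    by_contra h0
    obtain ⟨y, hy, hy1⟩ := hK.inv k.1 k.2 fun h => h0 (Subtype.ext h)
    have hyk : y * k.1 = 1 := mul_eq_one_comm.mp hy1
    have : v = 0 := by
      rw [← one_mulVec v, ← hyk, ← mulVec_mulVec, show k.1 *ᵥ v = 0 from hk, mulVec_zero]
    exact (one_ne_zero : (1 : F) ≠ 0) (by simpa [v] using congrFun this 0)
  let Φ : Ks ≃ₗ[F] (Fin 3 → F) := LinearEquiv.ofBijective L
    ⟨hL, (LinearMap.injective_iff_surjective_of_finrank_eq_finrank (by rw [hdim, finrank_fin_fun])).1 hL⟩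
  have hact : ∀ k x : Ks, k.1 *ᵥ Φ x = Φ (k * x) := fun k x => mulVec_mulVec v k.1 x.1
  have hdet : ∀ k : Ks, (k.1).det = Algebra.norm F k := by
    intro k
    have h : Matrix.toLin' k.1 = Φ.conj (Algebra.lmul F Ks k) := by
      refine LinearMap.ext fun u => ?_
      obtain ⟨x, rfl⟩ := Φ.surjective u
      rw [LinearEquiv.conj_apply_apply, Φ.symm_apply_apply, Matrix.toLin'_apply, hact]
      rfl
    rw [← LinearMap.det_toLin', h, LinearEquiv.conj_apply, LinearMap.comp_assoc, LinearMap.det_conj,
      Algebra.norm_apply]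
  let D : Frame F Ks M :=
    { ρ := Ks.val
      Φ := Φ
      act := hact
      mem := fun k hk => hM <| by
        set G : G3 := Units.map (Ks.val : Ks →* M3) k with hG
        have hGv : (G : M3) = (k : Ks).1 := rfl
        refine Subgroup.mem_inf.2 ⟨fun A => ?_, ?_⟩
        · have hcomm : ∀ B ∈ Ks, (G : M3) * B * ((G⁻¹ : G3) : M3) = B := fun B hB => by
            rw [hGv, hK.comm _ (k : Ks).2 _ hB, mul_assoc, ← hGv, Units.mul_inv, mul_one]
          refine ⟨fun hA => by rwa [hcomm A hA], fun hA => ?_⟩
          have h := hcomm _ hA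
          have h' := congrArg (fun X => ((G⁻¹ : G3) : M3) * X * (G : M3)) h
          simp only [mul_assoc, Units.inv_mul, mul_one] at h'
          simp only [← mul_assoc, Units.inv_mul, one_mul] at h'
          rw [← h']; exact hA
        · rw [specialLinear, MonoidHom.mem_ker, Units.ext_iff, Matrix.GeneralLinearGroup.val_det_apply,
            Units.val_one, hGv, hdet, hk] }
  by_cases hsl : specialLinear (Fin 3) F ≤ M
  · exact .inl hsl
  right
  have hno := D.noTransv hdim hsl (by rwa [Nat.card_eq_fintype_card])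
  have h := D.le_normalizer hdim hMs (D.odd_card hdim hno hMs)
  rwa [Subalgebra.range_val] at h

/-- The normaliser of a cubic field is maximal in `SL₃(q)` for `q ≠ 4`. -/
theorem field_maximal (hq : Fintype.card F ≠ 4) (Ks : Subalgebra F M3) (hK : IsFieldSubalgebra 3 Ks) :
    IsMaximalIn (specialLinear (Fin 3) F) (subalgebraNormalizer Ks ⊓ specialLinear (Fin 3) F) := by
  refine ⟨lt_of_le_of_ne inf_le_right fun e =>
    AschPrime.not_sl_le_field le_rfl hK (inf_eq_right.1 e), fun M hM hMs => ?_⟩
  rcases sl_le_or_le_normalizer hq hK hM hMs with h | h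
  · exact .inr (le_antisymm hMs h)
  · exact .inl (le_antisymm (le_inf h hMs) hM)

end CfsgLib.Classical.GeoThree.Singer
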