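import Cfsg.Agent.Lib.Classical.GeoThree.Singer.Frame
import Cfsg.Agent.Lib.Classical.AschPrime.AlmostSimple
import Cfsg.Agent.Lib.Classical.AschPrime.Clifford
import Cfsg.Agent.Lib.Classical.AschPrime.Symplectic
import Cfsg.Agent.S0205

/-!
# An odd-order group over the torus of norm one normalises the field
-/

set_option autoImplicit false
set_option linter.unusedSectionVars false
set_option linter.style.haveILetI false
set_option backward.isDefEq.respectTransparency false

open Matrix Module

namespace CfsgLib.Classical.GeoThree.Singer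

open Cfsg.Geo

variable {F K : Type*} [Field F] [Field K] [Algebra F K] {M : Subgroup (GL (Fin 3) F)}

local notation "M3" => Matrix (Fin 3) (Fin 3) F
local notation "G3" => GL (Fin 3) F

theorem not_nine_dvd (q : ℕ) : ¬ 9 ∣ q ^ 2 + q + 1 := by
  intro h
  have key : ∀ r < 9, (r ^ 2 + r + 1) % 9 ≠ 0 := by decide
  have e : ((q % 9) ^ 2 + q % 9 + 1) % 9 = (q ^ 2 + q + 1) % 9 := by
    simp [Nat.add_mod, Nat.pow_mod]
  exact key (q % 9) (Nat.mod_lt _ (by norm_num)) (e.trans (Nat.mod_eq_zero_of_dvd h))

theorem exists_large_prime {q : ℕ} (hq : 2 ≤ q) : ∃ r : ℕ, r.Prime ∧ 5 ≤ r ∧ r ∣ q ^ 2 + q + 1 := by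
  set N := q ^ 2 + q + 1 with hN
  by_contra hall
  push Not at hall
  have hodd : ¬ 2 ∣ N := by
    intro h2
    obtain ⟨c, hc⟩ := Nat.even_mul_succ_self q
    obtain ⟨d, hd⟩ := h2
    have : q ^ 2 + q = c + c := by rw [← hc]; ring
    omega
  -- every prime factor is three
  have h3 : ∀ p : ℕ, p.Prime → p ∣ N → p = 3 := fun p hp hpN => by
    have h5 := hall p hp
    by_contra hne
    rcases Nat.lt_or_ge p 5 with hlt | hge
    · interval_cases p
      · exact absurd hp (by norm_num)
      · exact absurd hp (by norm_num)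
      · exact hodd hpN
      · exact hne rfl
      · exact absurd hp (by norm_num)
    · exact h5 hge hpN
  have h7 : 7 ≤ N := by nlinarith
  obtain ⟨e, he⟩ : ∃ e, N = 3 ^ e := ⟨_, Nat.eq_prime_pow_of_unique_prime_dvd (by omega) (fun {p} hp hpN => h3 p hp hpN)⟩
  have he2 : 2 ≤ e := by
    by_contra hlt
    push Not at hlt
    interval_cases e <;> omega
  exact not_nine_dvd q (by rw [← hN, he]; exact (show 9 = 3 ^ 2 by norm_num) ▸ Nat.pow_dvd_pow 3 he2)

variable [Finite K] (D : Frame F K M)
include D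

theorem Frame.toGL_val (k : Kˣ) : (D.toGL k : M3) = D.ρ (k : K) := rfl

theorem Frame.ρ_injective : Function.Injective D.ρ := fun a b h => by
  have := (D.act a 1).symm.trans ((congrArg (· *ᵥ D.Φ 1) h).trans (D.act b 1))
  simpa using this

theorem Frame.toGL_pow (k : Kˣ) (n : ℕ) : D.toGL k ^ n = D.toGL (k ^ n) := (map_pow (Units.map (D.ρ : K →* M3)) k n).symm

/-- A matrix commuting with a generator of the field lies in it. -/
theorem Frame.mem_range_of_comm (hdim : finrank F K = 3) {k : K} (hk : ∀ μ : F, k ≠ μ • 1) {A : M3}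
    (hA : A * D.ρ k = D.ρ k * A) : A ∈ D.ρ.range := by
  let S : Subalgebra F K :=
    { carrier := {t | A * D.ρ t = D.ρ t * A}
      mul_mem' := fun {a b} (ha : A * D.ρ a = D.ρ a * A) (hb : A * D.ρ b = D.ρ b * A) => by
        show A * D.ρ (a * b) = D.ρ (a * b) * A
        rw [map_mul, ← mul_assoc, ha, mul_assoc, hb, mul_assoc]
      add_mem' := fun {a b} (ha : A * D.ρ a = D.ρ a * A) (hb : A * D.ρ b = D.ρ b * A) => by
        show A * D.ρ (a + b) = D.ρ (a + b) * A
        rw [map_add, mul_add, ha, hb, add_mul]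
      algebraMap_mem' := fun c => by
        show A * D.ρ (algebraMap F K c) = D.ρ (algebraMap F K c) * A
        rw [AlgHom.commutes, Algebra.commutes] }
  haveI := Subalgebra.isSimpleOrder_of_finrank_prime F K (hdim ▸ Nat.prime_three)
  have hS : S = ⊤ := (eq_bot_or_eq_top S).resolve_left fun h => by
    have hkS : k ∈ S := hA
    rw [h, Algebra.mem_bot] at hkS
    obtain ⟨μ, hμ⟩ := hkS
    exact hk μ (by rw [← hμ, Algebra.algebraMap_eq_smul_one])
  obtain ⟨a, ha⟩ := D.Φ.surjective (A *ᵥ D.Φ 1)
  refine ⟨a, D.mulVec_ext fun x => ?_⟩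
  have hx : A * D.ρ x = D.ρ x * A := (hS ▸ Algebra.mem_top : x ∈ S)
  have e1 : A *ᵥ D.Φ x = D.ρ x *ᵥ D.Φ a := by
    rw [ha, ← mul_one x, ← D.act, mulVec_mulVec, hx, ← mulVec_mulVec, mul_one]
  rw [e1, D.act]
  show D.ρ a *ᵥ D.Φ x = _
  rw [D.act, mul_comm]

theorem Frame.scalar_of_comm (hdim : finrank F K = 3) {k : K} {μ : F} (h : D.ρ k = μ • 1) : k = μ • 1 :=
  D.ρ_injective (by rw [h, map_smul, map_one])

variable [Fintype F]

/-- An element of large prime order in the torus. -/
theorem Frame.exists_prime_element (hdim : finrank F K = 3) :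
    ∃ (r : ℕ) (k : Kˣ), r.Prime ∧ 5 ≤ r ∧ orderOf (D.toGL k) = r ∧ D.toGL k ∈ M ∧
      ∀ n : ℕ, ¬ r ∣ n → ∀ μ : F, ((k ^ n : Kˣ) : K) ≠ μ • 1 := by
  haveI : Finite F := inferInstance
  obtain ⟨r, hr, hr5, hdvd⟩ := exists_large_prime (q := Nat.card F) Finite.one_lt_card
  haveI := Fact.mk hr
  obtain ⟨hpt, -, -⟩ := card_facts (F := F) (K := K) hdim
  have hq2 : 2 ≤ Nat.card F := Finite.one_lt_card
  have hker : r ∣ Nat.card (normU F K).ker := by
    have hK : Nat.card Kˣ = Nat.card (normU F K).ker * Nat.card Fˣ := by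
      rw [Subgroup.card_eq_card_quotient_mul_card_subgroup (normU F K).ker,
        Nat.card_congr (QuotientGroup.quotientKerEquivOfSurjective (normU F K)
          (FiniteField.unitsMap_norm_surjective F K)).toEquiv, mul_comm]
    have hKp : Nat.card Kˣ = Nat.card (Pt F K) * Nat.card (scal F K) :=
      Subgroup.card_eq_card_quotient_mul_card_subgroup _
    have hscal : Nat.card (scal F K) = Nat.card Fˣ :=
      (Nat.card_congr (MonoidHom.ofInjective (f := Units.map (algebraMap F K).toMonoidHom)
        (Units.map_injective (algebraMap F K).injective)).toEquiv).symm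
    rw [hscal, hK, hpt] at hKp
    rw [Nat.eq_of_mul_eq_mul_right (Nat.card_pos (α := Fˣ)) hKp]
    exact hdvd
  obtain ⟨⟨k, hk⟩, hord⟩ := exists_prime_orderOf_dvd_card' r hker
  rw [Subgroup.orderOf_mk] at hord
  have hk1 : Algebra.norm F (k : K) = 1 := congrArg Units.val hk
  refine ⟨r, k, hr, hr5, ?_, D.mem k hk1, fun n hn μ hμ => ?_⟩
  · rw [← hord]
    exact orderOf_injective (Units.map (D.ρ : K →* M3)) (Units.map_injective D.ρ_injective) k
  · have hn1 : Algebra.norm F ((k ^ n : Kˣ) : K) = 1 := by rw [Units.val_pow_eq_pow_val, map_pow, hk1, one_pow]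
    rw [hμ, Algebra.smul_def, mul_one, Algebra.norm_algebraMap, hdim] at hn1
    have h3 : k ^ (n * 3) = 1 := Units.ext (by
      rw [pow_mul, Units.val_pow_eq_pow_val, hμ, smul_pow, hn1, one_pow, one_smul, Units.val_one])
    have := hord ▸ orderOf_dvd_of_pow_eq_one h3
    rcases (Nat.Prime.dvd_mul hr).1 this with h | h
    · exact hn h
    · have := Nat.le_of_dvd (by norm_num) h
      omega

/-- An irreducible group with an element of large prime order in the field and a non-scalar normal
subgroup of odd order normalises the field. -/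
theorem Frame.le_normalizer_of_normal (hdim : finrank F K = 3) {M' : Subgroup G3}
    (hirr : ActsIrreducibly (matrixSet M')) (hMs : M' ≤ specialLinear (Fin 3) F) {r : ℕ} {k : Kˣ} (hr : r.Prime)
    (hr5 : 5 ≤ r) (hord : orderOf (D.toGL k) = r) (hgM : D.toGL k ∈ M')
    (hns : ∀ n : ℕ, ¬ r ∣ n → ∀ μ : F, ((k ^ n : Kˣ) : K) ≠ μ • 1) {N₀ : Subgroup G3} (hN₀ : N₀ ≤ M')
    (hodd : Odd (Nat.card N₀)) (hN₀n : ∀ h ∈ M', ∀ x ∈ N₀, h * x * h⁻¹ ∈ N₀)
    (hN₀s : ¬ N₀ ≤ scalars (Fin 3) F) : M' ≤ subalgebraNormalizer D.ρ.range := by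
  classical
  set g := D.toGL k with hg
  haveI := Fact.mk hr
  have hn3 : Nat.Prime 3 := Nat.prime_three
  have hr0 : ∀ n, 0 < n → n < r → ¬ r ∣ n := fun n h0 hlt h => by have := Nat.le_of_dvd h0 h; omega
  have hns1 : ∀ μ : F, (k : K) ≠ μ • 1 := by simpa using hns 1 (hr0 1 one_pos (by omega))
  by_cases hall : AschPrime.AllNormalAbsIrred M'
  · exfalso
    have hex : ∃ d, ∃ L ≤ N₀, (∀ h ∈ M', ∀ x ∈ L, h * x * h⁻¹ ∈ L) ∧
        ¬ L ≤ scalars (Fin 3) F ∧ Nat.card L = d := ⟨_, N₀, le_rfl, hN₀n, hN₀s, rfl⟩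
    obtain ⟨L, hLN, hLn, hL0, hLd⟩ := Nat.find_spec hex
    have hL : L ≤ M' := hLN.trans hN₀
    by_cases hLL : ⁅L, L⁆ ≤ scalars (Fin 3) F
    · obtain ⟨R, hRM, hRn, hR⟩ := AschPrime.exists_RData hn3 (by decide) hall hMs hL hLn hL0
        fun x hx y hy => hLL (Subgroup.commutator_mem_commutator hx hy)
      -- the element of prime order permutes `R`
      have hRcard := hR.card_eq hn3
      have hcent := hR.card_center hn3
      have hconj : ∀ (h : Subgroup.zpowers g) (x : G3), x ∈ R → (h : G3) * x * (h : G3)⁻¹ ∈ R :=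
        fun h x hx => hRn _ (Subgroup.zpowers_le.2 hgM h.2) x hx
      letI : MulAction (Subgroup.zpowers g) R :=
        { smul := fun h x => ⟨(h : G3) * x * (h : G3)⁻¹, hconj h x x.2⟩
          one_smul := fun x => Subtype.ext (show (1 : G3) * x * (1 : G3)⁻¹ = x by group)
          mul_smul := fun a b x => Subtype.ext (show ((a : G3) * b) * x * ((a : G3) * b)⁻¹ =
            (a : G3) * ((b : G3) * x * (b : G3)⁻¹) * (a : G3)⁻¹ by group) }
      have hP : IsPGroup r (Subgroup.zpowers g) := IsPGroup.of_card (n := 1) (by rw [Nat.card_zpowers, hord, pow_one])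
      have hmod := hP.card_modEq_card_fixedPoints R
      set Fix := (Subgroup.centralizer {g}).subgroupOf R with hFix
      have hfix : MulAction.fixedPoints (Subgroup.zpowers g) R = (Fix : Set R) := by
        ext x
        rw [SetLike.mem_coe, hFix, Subgroup.mem_subgroupOf, Subgroup.mem_centralizer_singleton_iff]
        constructor
        · intro hx
          have h : g * (x : G3) * g⁻¹ = x := congrArg Subtype.val (hx ⟨g, Subgroup.mem_zpowers g⟩)
          exact (mul_inv_eq_iff_eq_mul.1 h).symm
        · rintro hx ⟨h, hh⟩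
          obtain ⟨i, rfl⟩ := Subgroup.mem_zpowers_iff.1 hh
          refine Subtype.ext (?_ : g ^ i * (x : G3) * (g ^ i)⁻¹ = x)
          rw [((show Commute g (x : G3) from hx.symm).zpow_left i).eq, mul_inv_cancel_right]
      have hcardfix : Nat.card (MulAction.fixedPoints (Subgroup.zpowers g) R) = Nat.card Fix := by
        rw [hfix]; rfl
      rw [hcardfix] at hmod
      have hle : Subgroup.center R ≤ Fix := fun x hx => by
        rw [hFix, Subgroup.mem_subgroupOf, Subgroup.mem_centralizer_singleton_iff]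
        have h := (SetLike.ext_iff.mp (hR.center_eq hn3) x).1 hx
        exact AschPrime.scalars_comm h g
      have hlt : Fix ≠ ⊤ := fun htop => by
        obtain ⟨μ, hμ⟩ := hR.absIrr.2 (g : M3) (by
          rintro _ ⟨x, hx, rfl⟩
          have h : (⟨x, hx⟩ : R) ∈ Fix := htop ▸ Subgroup.mem_top _
          rw [hFix, Subgroup.mem_subgroupOf, Subgroup.mem_centralizer_singleton_iff] at h
          exact (congrArg Units.val h).symm)
        exact hns1 μ (D.scalar_of_comm hdim hμ)
      have hdvd : Nat.card Fix ∣ 3 ^ 3 := hRcard ▸ Subgroup.card_subgroup_dvd_card Fix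
      obtain ⟨i, hi3, hi⟩ := (Nat.dvd_prime_pow hn3).1 hdvd
      have hi1 : 1 ≤ i := by
        by_contra h
        have h1 := Subgroup.card_le_of_le hle
        rw [hcent, hi, show i = 0 by omega] at h1
        norm_num at h1
      have hi2 : i ≠ 3 := fun h => hlt (Subgroup.eq_top_of_card_eq _ (by rw [hi, h, hRcard]))
      rw [hRcard, hi] at hmod
      have hd := (Nat.modEq_iff_dvd' (Nat.pow_le_pow_right (by norm_num) hi3)).1 hmod.symm
      interval_cases i <;> norm_num at hd hi2 <;>
        (have := Nat.le_of_dvd (by norm_num) hd; interval_cases r <;> first | omega | (norm_num at hr))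
    · -- the minimal subgroup would be perfect
      haveI : Nontrivial L := by
        by_contra hnt
        rw [Subgroup.nontrivial_iff_ne_bot, not_not] at hnt
        exact hL0 (hnt ▸ bot_le)
      have hsolv : Group.IsSolvable L := Cfsg.Agent.S0205.result
        (hodd.of_dvd_nat (Subgroup.card_dvd_of_le hLN))
      have hlt := IsSolvable.commutator_lt_top_of_nontrivial (G := L) (hG := hsolv)
      have hmin := Nat.find_min' hex ⟨⁅L, L⁆, (Subgroup.commutator_le_self L).trans hLN, ?_, hLL, rfl⟩
      · rw [← hLd] at hmin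
        have heq := Subgroup.eq_of_le_of_card_ge (Subgroup.commutator_le_self L) hmin
        refine hlt.ne (Subgroup.map_injective L.subtype_injective ?_)
        rw [Subgroup.map_subtype_commutator, ← MonoidHom.range_eq_map, Subgroup.range_subtype]
        exact heq
      · intro h hh x hx
        exact AschPrime.conj_commutator_mem (hLn h hh) x hx
  simp only [AschPrime.AllNormalAbsIrred, not_forall] at hall
  obtain ⟨N, hN, hnorm, hN0, hnabs⟩ := hall
  rcases AschPrime.clifford hn3 hN hnorm hirr with hi | hs | ⟨E, hE, hle, -⟩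
  · set K' := Subalgebra.centralizer F (matrixSet N)
    have hK' : IsFieldSubalgebra 3 K' := AschPrime.commutant_field hn3 hi fun h => hnabs ⟨hi, h⟩
    have hle' : M' ≤ subalgebraNormalizer K' := AschPrime.le_normalizer_commutant hnorm
    suffices hKK : K' = D.ρ.range by rwa [← hKK]
    have hfield : IsField K' := ⟨⟨0, 1, zero_ne_one⟩, fun a b => Subtype.ext (hK'.comm _ a.2 _ b.2),
      fun {a} ha => by
        obtain ⟨y, hy, h⟩ := hK'.inv a.1 a.2 fun h => ha (Subtype.ext h)
        exact ⟨⟨y, hy⟩, Subtype.ext h⟩⟩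
    letI : Field K' := hfield.toField
    haveI : FiniteDimensional F K' := Module.finite_of_finrank_pos (by rw [hK'.finrank_eq]; norm_num)
    let σ : ∀ h : subalgebraNormalizer K', K' →ₐ[F] K' := fun h =>
      { toFun := fun x => ⟨((h : G3) : M3) * (x : M3) * (((h : G3)⁻¹ : G3) : M3), (h.2 _).1 x.2⟩
        map_one' := Subtype.ext (by
          show ((h : G3) : M3) * 1 * (((h : G3)⁻¹ : G3) : M3) = 1
          rw [mul_one, Units.mul_inv])
        map_mul' := fun a b => Subtype.ext (by
          show ((h : G3) : M3) * ((a : M3) * b) * (((h : G3)⁻¹ : G3) : M3) = _ * _ * _ * (_ * _ * _)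
          simp only [mul_assoc]
          rw [← mul_assoc (((h : G3)⁻¹ : G3) : M3) ((h : G3) : M3), Units.inv_mul, one_mul])
        map_zero' := Subtype.ext (by simp)
        map_add' := fun a b => Subtype.ext (by simp [mul_add, add_mul])
        commutes' := fun c => Subtype.ext (by
          show ((h : G3) : M3) * algebraMap F M3 c * (((h : G3)⁻¹ : G3) : M3) = algebraMap F M3 c
          rw [← Algebra.commutes c ((h : G3) : M3), mul_assoc, Units.mul_inv, mul_one]) }
    let φ : subalgebraNormalizer K' →* (K' →ₐ[F] K') :=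
      { toFun := σ
        map_one' := AlgHom.ext fun x => Subtype.ext (by simp [σ])
        map_mul' := fun a b => AlgHom.ext fun x => Subtype.ext (by
          show (((a * b : subalgebraNormalizer K') : G3) : M3) * (x : M3) *
              (((((a * b : subalgebraNormalizer K') : G3))⁻¹ : G3) : M3) =
            ((a : G3) : M3) * (((b : G3) : M3) * (x : M3) * (((b : G3)⁻¹ : G3) : M3)) * (((a : G3)⁻¹ : G3) : M3)
          rw [Subgroup.coe_mul, _root_.mul_inv_rev, Units.val_mul, Units.val_mul]
          simp only [mul_assoc]) }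
    set g' : subalgebraNormalizer K' := ⟨g, hle' hgM⟩
    have hord' : orderOf (φ g') ∣ r := hord ▸ Subgroup.orderOf_mk g (hle' hgM) ▸ orderOf_map_dvd φ g'
    have hφ : φ g' = 1 := by
      rcases (Nat.dvd_prime hr).1 hord' with e | e
      · exact orderOf_eq_one_iff.1 e
      · exfalso
        have hinj : Function.Injective fun i : Fin r => φ g' ^ (i : ℕ) := fun i j hij =>
          Fin.ext (pow_injOn_Iio_orderOf (by rw [Set.mem_Iio, e]; exact i.2) (by rw [Set.mem_Iio, e]; exact j.2) hij)
        have h1 := Fintype.card_le_of_injective _ hinj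
        have h2 := AlgHom.card_le (F := F) (K := K')
        rw [Fintype.card_fin] at h1
        have h3 : finrank F K' = 3 := hK'.finrank_eq
        omega
    refine Subalgebra.eq_of_le_of_finrank_eq (fun A hA => D.mem_range_of_comm hdim hns1 ?_) ?_
    · have h := congrArg (fun f : K' →ₐ[F] K' => ((f ⟨A, hA⟩ : K') : M3)) hφ
      change (g : M3) * A * ((g⁻¹ : G3) : M3) = A at h
      have h' := congrArg (fun X => X * (g : M3)) h
      rw [mul_assoc, Units.inv_mul, mul_one] at h'
      exact h'.symm
    · rw [hK'.finrank_eq]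
      exact ((LinearEquiv.ofInjective D.ρ.toLinearMap D.ρ_injective).finrank_eq.symm.trans hdim).symm
  · exact absurd hs hN0
  · exfalso
    obtain ⟨π, hπ⟩ := hle hgM
    -- the sixth power fixes every line
    have hpow : ∀ (n : ℕ) (i : Fin 3),
        (E i).map (Matrix.toLin' ((g ^ n : G3) : M3)) = E ((π ^ n) i) := by
      intro n
      induction n with
      | zero => intro i; simp
      | succ n ih =>
        intro i
        rw [pow_succ', Units.val_mul, Matrix.toLin'_mul, Submodule.map_comp, ih, hπ, pow_succ', Equiv.Perm.mul_apply]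
    have hπ6 : π ^ 6 = 1 := by
      have h := pow_card_eq_one' (x := π)
      rwa [Nat.card_eq_fintype_card, Fintype.card_perm, Fintype.card_fin] at h
    obtain ⟨v, hv, hv0⟩ := Submodule.exists_mem_ne_zero_of_ne_bot (p := E 0) fun h => by
      have := hE.finrank_eq 0
      rw [h, finrank_bot] at this
      omega
    have hv' : ((g ^ 6 : G3) : M3) *ᵥ v ∈ E 0 := by
      have h := hpow 6 0
      rw [hπ6, Equiv.Perm.one_apply] at h
      exact h.le ⟨v, hv, rfl⟩
    obtain ⟨μ, hμ⟩ : ∃ μ : F, ((g ^ 6 : G3) : M3) *ᵥ v = μ • v := by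
      have hspan : Submodule.span F {v} = E 0 := Submodule.eq_of_le_of_finrank_eq
        ((Submodule.span_singleton_le_iff_mem _ _).2 hv) (by rw [finrank_span_singleton hv0, hE.finrank_eq])
      rw [← hspan, Submodule.mem_span_singleton] at hv'
      obtain ⟨μ, hμ⟩ := hv'
      exact ⟨μ, hμ.symm⟩
    obtain ⟨x, rfl⟩ := D.Φ.surjective v
    rw [hg, D.toGL_pow, D.toGL_mulVec, ← map_smul] at hμ
    have hx : x ≠ 0 := fun h => hv0 (by rw [h, map_zero])
    refine hns 6 (fun h => ?_) μ (mul_right_cancel₀ hx (by rw [D.Φ.injective hμ, smul_mul_assoc, one_mul]))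
    have h6 := Nat.le_of_dvd (by norm_num) h
    interval_cases r <;> first | omega | (norm_num at hr)

/-- An odd-order group normalises the field. -/
theorem Frame.le_normalizer (hdim : finrank F K = 3) (hMs : M ≤ specialLinear (Fin 3) F)
    (hodd : Odd (Nat.card M)) : M ≤ subalgebraNormalizer D.ρ.range := by
  obtain ⟨r, k, hr, hr5, hord, hgM, hns⟩ := D.exists_prime_element hdim
  refine D.le_normalizer_of_normal hdim (D.irreducible hdim) hMs hr hr5 hord hgM hns le_rfl hodd
    (fun h hh x hx => M.mul_mem (M.mul_mem hh hx) (M.inv_mem hh)) fun hle => ?_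
  obtain ⟨μ, hμ⟩ := (mem_scalars_iff _).1 (hle hgM)
  refine hns 1 (fun h => by have := Nat.le_of_dvd one_pos h; omega) μ ?_
  rw [pow_one]
  exact D.scalar_of_comm hdim hμ

end CfsgLib.Classical.GeoThree.Singer
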