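import Mathlib

/-!
# The Singer cycle on the plane of a cubic extension

The points of the plane are the cosets of `Fˣ` in `Kˣ`; the trace-zero ones form a line `W`, a perfect
difference set.  The images of the elements of norm one form a subgroup `H` of index `gcd(3, q-1)`.
-/

set_option autoImplicit false
set_option linter.unusedSectionVars false

open Module

namespace CfsgLib.Classical.GeoThree.Singer

variable (F K : Type*) [Field F] [Field K] [Algebra F K]

theorem translate_eq {G : Type*} [Group G] (a b c : G) : b⁻¹ * c = (a⁻¹ * b)⁻¹ * (a⁻¹ * c) := by group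

/-- The scalars inside the multiplicative group. -/
def scal : Subgroup Kˣ := (Units.map (algebraMap F K).toMonoidHom).range

/-- The points of the plane. -/
abbrev Pt := Kˣ ⧸ scal F K

variable {F K}

/-- The point of a non-zero vector. -/
def mk : Kˣ →* Pt F K := QuotientGroup.mk' (scal F K)

theorem mk_surjective : Function.Surjective (mk (F := F) (K := K)) := QuotientGroup.mk'_surjective _

theorem mk_eq_mk {u v : Kˣ} : mk (F := F) u = mk v ↔ ∃ μ : F, μ ≠ 0 ∧ (v : K) = μ • (u : K) := by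
  rw [mk, QuotientGroup.mk'_apply, QuotientGroup.mk'_apply, QuotientGroup.eq, scal, MonoidHom.mem_range]
  constructor
  · rintro ⟨c, hc⟩
    refine ⟨c, c.ne_zero, ?_⟩
    have h := congrArg Units.val hc
    simp only [Units.coe_map, RingHom.toMonoidHom_eq_coe, MonoidHom.coe_coe, Units.val_mul] at h
    rw [Algebra.smul_def, h, mul_comm _ (v : K), mul_assoc, Units.inv_mul, mul_one]
  · rintro ⟨μ, hμ, h⟩
    refine ⟨Units.mk0 μ hμ, Units.ext ?_⟩
    simp only [Units.coe_map, RingHom.toMonoidHom_eq_coe, MonoidHom.coe_coe, Units.val_mul, Units.val_mk0]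
    rw [h, Algebra.smul_def, mul_comm _ (u : K), ← mul_assoc, Units.inv_mul, one_mul]

variable (F K)

/-- The norm on units. -/
noncomputable def normU : Kˣ →* Fˣ := Units.map (Algebra.norm F)

/-- The orbit of the point `1` under the elements of norm one. -/
noncomputable def H : Subgroup (Pt F K) := (normU F K).ker.map mk

/-- The points of trace zero. -/
def W : Set (Pt F K) := {g | ∃ u, mk u = g ∧ Algebra.trace F K (u : K) = 0}

/-- The number of trace-zero points in the class of `g`. -/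
noncomputable def num (g : Pt F K) : ℕ := {y ∈ W F K | g⁻¹ * y ∈ H F K}.ncard

variable {F K}

theorem mem_W {u : Kˣ} : mk u ∈ W F K ↔ Algebra.trace F K (u : K) = 0 := by
  refine ⟨?_, fun h => ⟨u, rfl, h⟩⟩
  rintro ⟨v, hv, h⟩
  obtain ⟨μ, -, e⟩ := mk_eq_mk.1 hv
  rw [e, map_smul, h, smul_zero]

theorem mem_H {u v : Kˣ} :
    (mk (F := F) u)⁻¹ * mk v ∈ H F K ↔
      ∃ (k : Kˣ) (μ : F), μ ≠ 0 ∧ Algebra.norm F (k : K) = 1 ∧ (v : K) = μ • ((k : K) * u) := by
  rw [← map_inv, ← map_mul, H, Subgroup.mem_map]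
  constructor
  · rintro ⟨k, hk, e⟩
    obtain ⟨μ, hμ, hm⟩ := mk_eq_mk.1 e
    refine ⟨k, μ, hμ, congrArg Units.val hk, ?_⟩
    rw [← smul_mul_assoc, ← hm, Units.val_mul, mul_comm ((u⁻¹ : Kˣ) : K), mul_assoc, Units.inv_mul, mul_one]
  · rintro ⟨k, μ, hμ, hk, e⟩
    refine ⟨k, Units.ext hk, mk_eq_mk.2 ⟨μ, hμ, ?_⟩⟩
    rw [Units.val_mul, e, mul_comm (k : K), mul_smul_comm, ← mul_assoc, Units.inv_mul, one_mul]

theorem num_eq_of_mem {g g' : Pt F K} (h : g⁻¹ * g' ∈ H F K) : num F K g = num F K g' := by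
  unfold num
  congr 1
  ext y
  refine and_congr_right fun _ => ?_
  rw [translate_eq g g' y, Subgroup.mul_mem_cancel_left _ (inv_mem h)]

variable [Finite K]

theorem trace_mul_nondeg {u : K} (h : ∀ y, Algebra.trace F K (u * y) = 0) : u = 0 :=
  (traceForm_nondegenerate F K).1 u fun y => by rw [Algebra.traceForm_apply]; exact h y

theorem exists_trace_one : ∃ e : K, Algebra.trace F K e = 1 := Algebra.trace_surjective F K 1

/-- A multiplier preserving trace zero is a scalar. -/
theorem eq_scalar_of_trace {u : K} (h : ∀ y, Algebra.trace F K y = 0 → Algebra.trace F K (u * y) = 0) :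
    ∃ μ : F, u = μ • 1 := by
  obtain ⟨e, he⟩ := exists_trace_one (F := F) (K := K)
  refine ⟨Algebra.trace F K (u * e), sub_eq_zero.1 (trace_mul_nondeg (F := F) fun y => ?_)⟩
  have := h (y - Algebra.trace F K y • e) (by rw [map_sub, map_smul, he, smul_eq_mul, mul_one, sub_self])
  rw [mul_sub, mul_smul_comm, map_sub, map_smul, sub_eq_zero] at this
  rw [sub_mul, smul_mul_assoc, one_mul, map_sub, map_smul, this, smul_eq_mul, smul_eq_mul, mul_comm, sub_self]

variable (hdim : finrank F K = 3)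
include hdim

/-- The kernel of the trace. -/
theorem finrank_W0 : finrank F (LinearMap.ker (Algebra.trace F K)) = 2 := by
  have h := LinearMap.finrank_range_add_finrank_ker (Algebra.trace F K)
  rw [LinearMap.range_eq_top.2 (Algebra.trace_surjective F K), finrank_top, finrank_self, hdim] at h
  omega

/-- Two independent trace-zero vectors span the trace-zero plane. -/
theorem exists_comb {y₁ y₂ y : K} (h₁ : Algebra.trace F K y₁ = 0) (h₂ : Algebra.trace F K y₂ = 0)
    (hy : Algebra.trace F K y = 0) (h10 : y₁ ≠ 0) (hind : ∀ μ : F, μ • y₁ ≠ y₂) :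
    ∃ a b : F, a • y₁ + b • y₂ = y := by
  have hli : LinearIndependent F ![y₁, y₂] := (LinearIndependent.pair_iff' h10).2 hind
  have hle : Submodule.span F (Set.range ![y₁, y₂]) ≤ LinearMap.ker (Algebra.trace F K) := by
    rw [Submodule.span_le]
    rintro _ ⟨i, rfl⟩
    fin_cases i
    exacts [h₁, h₂]
  have heq := Submodule.eq_of_le_of_finrank_le hle
    (by rw [finrank_span_eq_card hli, finrank_W0 hdim, Fintype.card_fin])
  have hmem : y ∈ Submodule.span F (Set.range ![y₁, y₂]) := heq ▸ LinearMap.mem_ker.2 hy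
  rw [show Set.range ![y₁, y₂] = {y₁, y₂} by simp [Set.pair_comm], Submodule.mem_span_pair] at hmem
  exact hmem

theorem card_F_pow : Nat.card K = Nat.card F ^ 3 := by rw [Module.natCard_eq_pow_finrank (K := F), hdim]

theorem card_W : (W F K).ncard = Nat.card F + 1 := by
  haveI : Finite F := Finite.of_injective _ (algebraMap F K).injective
  set b := (Module.finBasisOfFinrankEq F _ (finrank_W0 hdim)) with hb
  have hne : ∀ i, ((b i : LinearMap.ker (Algebra.trace F K)) : K) ≠ 0 := fun i e => b.ne_zero i (Subtype.ext e)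
  set y₁ := ((b 0 : LinearMap.ker (Algebra.trace F K)) : K)
  set y₂ := ((b 1 : LinearMap.ker (Algebra.trace F K)) : K)
  have hli : LinearIndependent F ![y₁, y₂] := by
    have := b.linearIndependent.map' (LinearMap.ker (Algebra.trace F K)).subtype (Submodule.ker_subtype _)
    rw [show ![y₁, y₂] = (LinearMap.ker (Algebra.trace F K)).subtype ∘ b from funext fun i => by
      fin_cases i <;> rfl]
    exact this
  rw [LinearIndependent.pair_iff] at hli
  have h₁ : Algebra.trace F K y₁ = 0 := LinearMap.mem_ker.1 (b 0).2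
  have h₂ : Algebra.trace F K y₂ = 0 := LinearMap.mem_ker.1 (b 1).2
  have hf0 : ∀ t : F, y₁ + t • y₂ ≠ 0 := fun t e => one_ne_zero (hli 1 t (by rwa [one_smul])).1
  let f : Option F → Pt F K := fun o => o.elim (mk (Units.mk0 y₂ (hne 1))) fun t => mk (Units.mk0 _ (hf0 t))
  have hinj : Function.Injective f := by
    rintro (_ | t) (_ | t') e
    · rfl
    · obtain ⟨μ, -, hm⟩ := mk_eq_mk.1 e
      simp only [Units.val_mk0] at hm
      exact absurd (hli 1 (t' - μ) (by rw [one_smul, sub_smul, ← add_sub_assoc, hm, sub_self])).1 one_ne_zero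
    · obtain ⟨μ, hμ, hm⟩ := mk_eq_mk.1 e
      simp only [Units.val_mk0] at hm
      exact absurd (hli μ (μ * t - 1) (by rw [sub_smul, mul_smul, one_smul, ← add_sub_assoc, ← smul_add, ← hm, sub_self])).1 hμ
    · obtain ⟨μ, hμ, hm⟩ := mk_eq_mk.1 e
      simp only [Units.val_mk0] at hm
      obtain ⟨e1, e2⟩ := hli (1 - μ) (t' - μ * t) (by
        rw [sub_smul, sub_smul, one_smul, mul_smul]
        linear_combination (norm := module) hm)
      rw [← sub_eq_zero.1 e1, one_mul, sub_eq_zero] at e2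
      rw [e2]
  have hrange : Set.range f = W F K := by
    refine Set.Subset.antisymm ?_ ?_
    · rintro _ ⟨_ | t, rfl⟩
      · exact mem_W.2 h₂
      · refine mem_W.2 ?_
        rw [Units.val_mk0, map_add, map_smul, h₁, h₂, smul_zero, add_zero]
    · rintro g ⟨u, rfl, hu⟩
      obtain ⟨a, c, e⟩ := exists_comb hdim h₁ h₂ hu (hne 0)
        fun μ e => one_ne_zero (hli μ (-1) (by rw [e, neg_one_smul, add_neg_cancel]) |>.2 |> neg_eq_zero.1)
      rcases eq_or_ne a 0 with rfl | ha
      · rw [zero_smul, zero_add] at e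
        refine ⟨none, mk_eq_mk.2 ⟨c, fun hc => u.ne_zero (by rw [← e, hc, zero_smul]), e.symm⟩⟩
      · refine ⟨some (c / a), mk_eq_mk.2 ⟨a, ha, ?_⟩⟩
        rw [Units.val_mk0, smul_add, smul_smul, mul_div_cancel₀ _ ha]
        exact e.symm
  rw [← hrange, ← Nat.card_coe_set_eq, Nat.card_range_of_injective hinj, Finite.card_option]

/-- The trace-zero points form a perfect difference set. -/
theorem existsUnique_translate {g : Pt F K} (hg : g ≠ 1) : ∃! y, y ∈ W F K ∧ y * g ∈ W F K := by
  obtain ⟨u, rfl⟩ := mk_surjective g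
  have hu : ∀ μ : F, (u : K) ≠ μ • 1 := fun μ e => hg (by
    rw [← map_one mk, eq_comm]
    exact mk_eq_mk.2 ⟨μ, fun h => u.ne_zero (by rw [e, h, zero_smul]), by rw [Units.val_one]; exact e⟩)
  set W0 := LinearMap.ker (Algebra.trace F K)
  let φ : W0 →ₗ[F] F := (Algebra.trace F K) ∘ₗ (LinearMap.mulLeft F (u : K)) ∘ₗ W0.subtype
  have h0 : LinearMap.ker φ ≠ ⊥ := fun h => by
    have h1 := LinearMap.finrank_range_add_finrank_ker φ
    rw [h, finrank_bot, finrank_W0 hdim] at h1
    have := Submodule.finrank_le (LinearMap.range φ)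
    rw [finrank_self] at this
    omega
  obtain ⟨y, hy, hy0⟩ := Submodule.exists_mem_ne_zero_of_ne_bot h0
  have hy0' : (y : K) ≠ 0 := fun e => hy0 (Subtype.ext e)
  refine ⟨mk (Units.mk0 _ hy0'), ⟨mem_W.2 (LinearMap.mem_ker.1 y.2), ?_⟩, ?_⟩
  · rw [← map_mul]
    refine mem_W.2 ?_
    rw [Units.val_mul, mul_comm]
    exact LinearMap.mem_ker.1 hy
  · rintro z ⟨hz, hzu⟩
    obtain ⟨v, rfl⟩ := mk_surjective z
    rw [← map_mul] at hzu
    have hz' := mem_W.1 hz
    have hzu' := mem_W.1 hzu
    rw [Units.val_mul, mul_comm] at hzu'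
    by_contra hne
    have hind : ∀ μ : F, μ • (y : K) ≠ (v : K) := fun μ e => hne (Eq.symm (mk_eq_mk.2
      ⟨μ, fun h => v.ne_zero (by rw [← e, h, zero_smul]), e.symm⟩))
    obtain ⟨μ, hμ⟩ := eq_scalar_of_trace (F := F) (u := (u : K)) fun t ht => by
      obtain ⟨a, b, rfl⟩ := exists_comb hdim (LinearMap.mem_ker.1 y.2) hz' ht hy0' hind
      have hyu : Algebra.trace F K ((u : K) * (y : K)) = 0 := LinearMap.mem_ker.1 hy
      rw [mul_add, mul_smul_comm, mul_smul_comm, map_add, map_smul, map_smul, hyu, hzu', smul_zero, smul_zero,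
        add_zero]
    exact hu μ hμ

/-- The cardinalities. -/
theorem card_facts : Nat.card (Pt F K) = Nat.card F ^ 2 + Nat.card F + 1 ∧
    Nat.card (H F K) * Nat.gcd 3 (Nat.card F - 1) = Nat.card F ^ 2 + Nat.card F + 1 ∧
    (H F K).index = Nat.gcd 3 (Nat.card F - 1) := by
  classical
  haveI : Finite F := Finite.of_injective _ (algebraMap F K).injective
  set q := Nat.card F with hq
  have hq2 : 2 ≤ q := Finite.one_lt_card
  have hfac : q ^ 3 - 1 = (q ^ 2 + q + 1) * (q - 1) := by
    obtain ⟨r, hr⟩ : ∃ r, q = r + 1 := ⟨q - 1, by omega⟩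
    rw [hr, Nat.add_sub_cancel]
    exact Nat.sub_eq_of_eq_add (by ring)
  have hK : Nat.card Kˣ = (q ^ 2 + q + 1) * (q - 1) := by rw [Nat.card_units, card_F_pow hdim, ← hq, hfac]
  have hscal : Nat.card (scal F K) = q - 1 := by
    rw [scal, ← Nat.card_congr (MonoidHom.ofInjective (f := Units.map (algebraMap F K).toMonoidHom)
      (Units.map_injective (algebraMap F K).injective)).toEquiv, Nat.card_units]
  have hpt : Nat.card (Pt F K) = q ^ 2 + q + 1 := by
    refine Nat.eq_of_mul_eq_mul_right (show 0 < q - 1 by omega) ?_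
    rw [← hK, Subgroup.card_eq_card_quotient_mul_card_subgroup (scal F K), hscal]
  have hker : Nat.card (normU F K).ker = q ^ 2 + q + 1 := by
    refine Nat.eq_of_mul_eq_mul_right (show 0 < q - 1 by omega) ?_
    rw [← hK, Subgroup.card_eq_card_quotient_mul_card_subgroup (normU F K).ker,
      Nat.card_congr (QuotientGroup.quotientKerEquivOfSurjective (normU F K)
        (FiniteField.unitsMap_norm_surjective F K)).toEquiv, Nat.card_units, mul_comm (q - 1)]
  set φ := (mk (F := F)).comp (normU F K).ker.subtype with hφ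
  have hrange : φ.range = H F K := by rw [hφ, MonoidHom.range_comp, Subgroup.range_subtype]; rfl
  have hc3 : ∀ c : Fˣ, normU F K (Units.map (algebraMap F K).toMonoidHom c) = c ^ 3 := fun c => Units.ext (by
    simp [normU, Algebra.norm_algebraMap, hdim])
  let ψ : (powMonoidHom 3 : Fˣ →* Fˣ).ker → φ.ker := fun c =>
    ⟨⟨Units.map (algebraMap F K).toMonoidHom c.1, by rw [MonoidHom.mem_ker, hc3]; exact c.2⟩,
      (QuotientGroup.eq_one_iff _).2 ⟨c.1, rfl⟩⟩
  have hψ : Function.Bijective ψ := by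
    constructor
    · intro a b e
      exact Subtype.ext (Units.map_injective (algebraMap F K).injective (congrArg (fun x => (x.1.1 : Kˣ)) e))
    · rintro ⟨⟨k, hk⟩, hk'⟩
      obtain ⟨c, rfl⟩ := (QuotientGroup.eq_one_iff k).1 hk'
      exact ⟨⟨c, by rw [MonoidHom.mem_ker, powMonoidHom_apply, ← hc3]; exact hk⟩, rfl⟩
  have hkφ : Nat.card φ.ker = Nat.gcd 3 (q - 1) := by
    rw [← Nat.card_congr (Equiv.ofBijective ψ hψ), IsCyclic.card_powMonoidHom_ker, Nat.card_units, Nat.gcd_comm]
  have hH : Nat.card (H F K) * Nat.gcd 3 (q - 1) = q ^ 2 + q + 1 := by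
    rw [← hkφ, ← hrange, ← hker, Subgroup.card_eq_card_quotient_mul_card_subgroup φ.ker,
      Nat.card_congr (QuotientGroup.quotientKerEquivRange φ).toEquiv]
  refine ⟨hpt, hH, Nat.eq_of_mul_eq_mul_left (Nat.card_pos (α := H F K)) ?_⟩
  rw [Subgroup.card_mul_index, hpt, hH]

theorem num_eq_of_coprime (hc : Nat.gcd 3 (Nat.card F - 1) = 1) (g : Pt F K) :
    num F K g = Nat.card F + 1 := by
  have htop : H F K = ⊤ := Subgroup.index_eq_one.1 ((card_facts hdim).2.2.trans hc)
  rw [← card_W hdim, num, htop]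
  congr 1
  simp

/-- The trace-zero points in the three classes. -/
theorem num_three (hc : Nat.gcd 3 (Nat.card F - 1) ≠ 1) {g₁ g₂ : Pt F K} (hne : g₁⁻¹ * g₂ ∉ H F K) :
    ∃ g₃, num F K g₁ + num F K g₂ + num F K g₃ = Nat.card F + 1 ∧
      3 * (num F K g₁ ^ 2 + num F K g₂ ^ 2 + num F K g₃ ^ 2) = Nat.card F ^ 2 + 4 * Nat.card F + 1 := by
  classical
  obtain ⟨-, hH, hidx⟩ := card_facts hdim
  have hg3 : Nat.gcd 3 (Nat.card F - 1) = 3 :=
    ((Nat.dvd_prime Nat.prime_three).1 (Nat.gcd_dvd_left _ _)).resolve_left hc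
  rw [hg3] at hH hidx
  haveI : Finite (Pt F K) := inferInstance
  haveI := Fintype.ofFinite (Pt F K ⧸ H F K)
  set s := (Set.toFinite (W F K)).toFinset with hs
  let f : Pt F K → Pt F K ⧸ H F K := QuotientGroup.mk
  have hnum : ∀ g, num F K g = (s.filter fun y => f y = f g).card := fun g => by
    rw [num, ← Set.ncard_coe_finset]
    congr 1
    ext y
    simp only [hs, Finset.coe_filter, Set.Finite.mem_toFinset, Set.mem_setOf_eq]
    exact and_congr_right fun _ => (eq_comm.trans QuotientGroup.eq).symm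
  have hQ : Fintype.card (Pt F K ⧸ H F K) = 3 := by rw [← Nat.card_eq_fintype_card]; exact hidx
  have hf12 : f g₁ ≠ f g₂ := fun e => hne (QuotientGroup.eq.1 e)
  obtain ⟨c, hc'⟩ : ∃ c, c ∉ ({f g₁, f g₂} : Finset (Pt F K ⧸ H F K)) := by
    by_contra h
    push Not at h
    have := (Finset.card_le_card fun x _ => h x : (Finset.univ : Finset (Pt F K ⧸ H F K)).card ≤ _).trans
      Finset.card_le_two
    rw [Finset.card_univ, hQ] at this
    omega
  obtain ⟨g₃, rfl⟩ := QuotientGroup.mk_surjective c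
  simp only [Finset.mem_insert, Finset.mem_singleton, not_or] at hc'
  have huniv : (Finset.univ : Finset (Pt F K ⧸ H F K)) = {f g₁, f g₂, f g₃} := by
    refine (Finset.eq_univ_of_card _ ?_).symm
    rw [hQ, Finset.card_insert_of_notMem (by simp [hf12, Ne.symm hc'.1, f]),
      Finset.card_pair (Ne.symm hc'.2)]
  have hsum : ∀ h : Pt F K ⧸ H F K → ℕ, ∑ x, h x = h (f g₁) + h (f g₂) + h (f g₃) := fun h => by
    rw [huniv, Finset.sum_insert (by simp [hf12, Ne.symm hc'.1, f]), Finset.sum_pair (Ne.symm hc'.2), add_assoc]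
  have hscard : s.card = Nat.card F + 1 := by rw [hs, ← Set.ncard_eq_toFinset_card, card_W hdim]
  set P := (s ×ˢ s).filter fun p => f p.1 = f p.2 with hP
  have hPsum : P.card = ∑ x, (s.filter fun y => f y = x).card ^ 2 := by
    rw [Finset.card_eq_sum_card_fiberwise (f := fun p => f p.1) (t := Finset.univ) (fun _ _ => Finset.mem_univ _)]
    refine Finset.sum_congr rfl fun x _ => ?_
    rw [sq, ← Finset.card_product]
    congr 1
    ext ⟨a, b⟩
    simp only [hP, Finset.mem_filter, Finset.mem_product]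
    constructor
    · rintro ⟨⟨⟨ha, hb⟩, he⟩, hx⟩
      exact ⟨⟨ha, hx⟩, hb, he ▸ hx⟩
    · rintro ⟨⟨ha, hx⟩, hb, hx'⟩
      exact ⟨⟨⟨ha, hb⟩, hx.trans hx'.symm⟩, hx⟩
  have hdiag : (P.filter fun p => p.1 = p.2).card = s.card := by
    refine Finset.card_bij (fun p _ => p.1) (fun p hp => ?_) (fun p hp p' hp' e => ?_) fun a ha => ?_
    · simp only [hP, Finset.mem_filter, Finset.mem_product] at hp
      exact hp.1.1.1
    · simp only [Finset.mem_filter] at hp hp'
      exact Prod.ext e (by rw [← hp.2, ← hp'.2, e])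
    · exact ⟨(a, a), by simp [hP, ha], rfl⟩
  have hoff : (P.filter fun p => ¬ p.1 = p.2).card = Nat.card (H F K) - 1 := by
    haveI := Fintype.ofFinite (H F K)
    rw [Nat.card_eq_fintype_card, ← Finset.card_univ,
      ← Finset.card_erase_of_mem (Finset.mem_univ (1 : H F K))]
    refine Finset.card_bij (fun p hp => ⟨p.1⁻¹ * p.2, ?_⟩) (fun p hp => ?_) (fun p hp p' hp' e => ?_)
      fun u hu => ?_
    · simp only [hP, Finset.mem_filter] at hp
      exact QuotientGroup.eq.1 hp.1.2
    · simp only [Finset.mem_filter] at hp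
      simp only [Finset.mem_erase, Finset.mem_univ, and_true, ne_eq, Subtype.ext_iff, Subgroup.coe_one,
        inv_mul_eq_one]
      exact hp.2
    · simp only [hP, hs, Finset.mem_filter, Finset.mem_product, Set.Finite.mem_toFinset] at hp hp'
      have e' : p.1⁻¹ * p.2 = p'.1⁻¹ * p'.2 := congrArg Subtype.val e
      have hne1 : p.1⁻¹ * p.2 ≠ 1 := fun h => hp.2 (inv_mul_eq_one.1 h)
      have h1 : p.1 = p'.1 := (existsUnique_translate hdim hne1).unique
        ⟨hp.1.1.1, by rw [mul_inv_cancel_left]; exact hp.1.1.2⟩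
        ⟨hp'.1.1.1, by rw [e', mul_inv_cancel_left]; exact hp'.1.1.2⟩
      rw [h1] at e'
      exact Prod.ext h1 (mul_left_cancel e')
    · have hu1 : (u : Pt F K) ≠ 1 := by
        simp only [Finset.mem_erase] at hu
        exact fun h => hu.1 (Subtype.ext h)
      obtain ⟨y, ⟨hy, hyu⟩, -⟩ := existsUnique_translate hdim hu1
      refine ⟨(y, y * u), ?_, Subtype.ext (inv_mul_cancel_left _ _)⟩
      simp only [hP, hs, Finset.mem_filter, Finset.mem_product, Set.Finite.mem_toFinset]
      exact ⟨⟨⟨hy, hyu⟩, QuotientGroup.eq.2 (by rw [inv_mul_cancel_left]; exact u.2)⟩,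
        fun h => hu1 (mul_eq_left.1 h.symm)⟩
  have hsplit := Finset.card_filter_add_card_filter_not (s := P) fun p => p.1 = p.2
  rw [hdiag, hoff, hPsum, hsum, hscard, ← hnum, ← hnum, ← hnum] at hsplit
  have hs1 := Finset.card_eq_sum_card_fiberwise (f := f) (s := s) (t := Finset.univ) fun _ _ => Finset.mem_univ _
  rw [hsum, hscard, ← hnum, ← hnum, ← hnum] at hs1
  refine ⟨g₃, hs1.symm, ?_⟩
  have := Nat.card_pos (α := H F K)
  omega

/-- Each class count is near a third of a line. -/
theorem num_cases (hc : Nat.gcd 3 (Nat.card F - 1) ≠ 1) (g : Pt F K) :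
    ∃ b c : ℕ, num F K g + b + c = Nat.card F + 1 ∧
      3 * (num F K g ^ 2 + b ^ 2 + c ^ 2) = Nat.card F ^ 2 + 4 * Nat.card F + 1 := by
  have hne : H F K ≠ ⊤ := fun h => hc (by rw [← (card_facts hdim).2.2, h, Subgroup.index_top])
  obtain ⟨u, hu⟩ : ∃ u, u ∉ H F K := by
    by_contra h
    push Not at h
    exact hne (eq_top_iff.2 fun x _ => h x)
  obtain ⟨g₃, h1, h2⟩ := num_three hdim hc (g₁ := g) (g₂ := g * u) (by rwa [inv_mul_cancel_left])
  exact ⟨_, _, h1, h2⟩

/-- At most two trace-zero points `y` have `Tr (e / y) = 0`. -/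
theorem ncard_conic_le {e : K} (he : e ≠ 0) :
    {g | ∃ u : Kˣ, mk u = g ∧ Algebra.trace F K (u : K) = 0 ∧
      Algebra.trace F K (e * ((u⁻¹ : Kˣ) : K)) = 0}.ncard (α := Pt F K) ≤ 2 := by
  by_contra hlt
  push Not at hlt
  obtain ⟨g₁, g₂, g₃, ⟨u₁, rfl, t₁, s₁⟩, ⟨u₂, rfl, t₂, s₂⟩, ⟨u₃, rfl, t₃, s₃⟩, h12, h13, h23⟩ :=
    (Set.two_lt_ncard_iff (Set.toFinite _)).1 hlt
  have hind : ∀ μ : F, μ • (u₁ : K) ≠ u₂ := fun μ h => h12 (mk_eq_mk.2
    ⟨μ, fun h0 => u₂.ne_zero (by rw [← h, h0, zero_smul]), h.symm⟩)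
  obtain ⟨a, b, hab⟩ := exists_comb hdim t₁ t₂ t₃ u₁.ne_zero hind
  have ha : a ≠ 0 := by
    rintro rfl
    rw [zero_smul, zero_add] at hab
    exact h23 (mk_eq_mk.2 ⟨b, fun h => u₃.ne_zero (by rw [← hab, h, zero_smul]), hab.symm⟩)
  have hb : b ≠ 0 := by
    rintro rfl
    rw [zero_smul, add_zero] at hab
    exact h13 (mk_eq_mk.2 ⟨a, ha, hab.symm⟩)
  simp only [Units.val_inv_eq_inv_val] at s₁ s₂ s₃
  -- `w` is the ratio of the two base points
  set w : K := (u₁ : K) / u₂ with hw
  have hw0 : w ≠ 0 := div_ne_zero u₁.ne_zero u₂.ne_zero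
  have hwF : ∀ μ : F, w ≠ μ • 1 := fun μ h => by
    have h' : (u₁ : K) = μ • (u₂ : K) := by
      rw [← smul_one_mul, ← h, hw, div_mul_cancel₀ _ u₂.ne_zero]
    rcases eq_or_ne μ 0 with rfl | hμ
    · exact u₁.ne_zero (by rw [h', zero_smul])
    · exact hind μ⁻¹ (by rw [h', inv_smul_smul₀ hμ])
  set e' := e * (u₁ : K)⁻¹ with he'
  have he'0 : e' ≠ 0 := mul_ne_zero he (inv_ne_zero u₁.ne_zero)
  have e1 : Algebra.trace F K (e' * 1) = 0 := by rw [mul_one]; exact s₁
  have e2 : Algebra.trace F K (e' * w) = 0 := by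
    rw [he', hw, mul_assoc, ← mul_div_assoc, inv_mul_cancel₀ u₁.ne_zero, one_div]; exact s₂
  have e3 : Algebra.trace F K (e' * (w * (a • w + b • 1)⁻¹)) = 0 := by
    convert s₃ using 2
    rw [← hab, he', hw, mul_assoc]
    congr 1
    have hden : (a • (u₁ : K) + b • (u₂ : K)) ≠ 0 := hab ▸ u₃.ne_zero
    simp only [Algebra.smul_def, mul_one] at hden ⊢
    field_simp
  -- the functional kills a plane only
  let U := LinearMap.ker ((Algebra.trace F K) ∘ₗ LinearMap.mulLeft F e')
  have hU : finrank F U ≤ 2 := by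
    have h := LinearMap.finrank_range_add_finrank_ker ((Algebra.trace F K) ∘ₗ LinearMap.mulLeft F e')
    have hne : LinearMap.range ((Algebra.trace F K) ∘ₗ LinearMap.mulLeft F e') ≠ ⊥ := fun h0 =>
      he'0 (trace_mul_nondeg (F := F) fun y => by
        have := LinearMap.congr_fun (LinearMap.range_eq_bot.1 h0) y
        simpa using this)
    have : finrank F (LinearMap.range ((Algebra.trace F K) ∘ₗ LinearMap.mulLeft F e')) ≠ 0 := fun h0 =>
      hne (Submodule.finrank_eq_zero.1 h0)
    change finrank F (LinearMap.ker _) ≤ 2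
    omega
  have hli : LinearIndependent F ![(1 : K), w] :=
    (LinearIndependent.pair_iff' one_ne_zero).2 fun μ h => hwF μ h.symm
  have heq : Submodule.span F (Set.range ![(1 : K), w]) = U := Submodule.eq_of_le_of_finrank_le (by
    rw [Submodule.span_le]
    rintro _ ⟨i, rfl⟩
    fin_cases i
    exacts [e1, e2]) (by rw [finrank_span_eq_card hli, Fintype.card_fin]; exact hU)
  have hmem : w * (a • w + b • 1)⁻¹ ∈ Submodule.span F (Set.range ![(1 : K), w]) := heq ▸ e3
  rw [show Set.range ![(1 : K), w] = {1, w} by simp [Set.pair_comm], Submodule.mem_span_pair] at hmem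
  obtain ⟨α, β, hαβ⟩ := hmem
  have hden : a • w + b • (1 : K) ≠ 0 := fun h => by
    have := (LinearIndependent.pair_iff.1 hli b a (by rwa [add_comm])).2
    exact ha this
  -- a quadratic relation for a generator
  have hrel : (α • (1 : K) + β • w) * (a • w + b • 1) = w := by rw [hαβ, inv_mul_cancel_right₀ hden]
  have hpoly : ∀ c₀ c₁ c₂ : F, c₀ • (1 : K) + c₁ • w + c₂ • (w * w) = 0 → c₂ = 0 := by
    intro c₀ c₁ c₂ h
    by_contra hc2
    -- the plane of `1, w` is a field
    have hsq : w * w ∈ Submodule.span F ({1, w} : Set K) := Submodule.mem_span_pair.2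
      ⟨-c₀ / c₂, -c₁ / c₂, by
        have : c₂⁻¹ • (c₀ • (1 : K) + c₁ • w + c₂ • (w * w)) = 0 := by rw [h, smul_zero]
        rw [smul_add, smul_add, smul_smul, smul_smul, inv_smul_smul₀ hc2] at this
        rw [neg_div, neg_div, neg_smul, neg_smul]
        linear_combination (norm := (simp only [div_eq_mul_inv, mul_comm]; module)) (-1 : F) • this⟩
    let S : Subalgebra F K := (Submodule.span F ({1, w} : Set K)).toSubalgebra
      (Submodule.subset_span (Or.inl rfl)) fun x y hx hy => by
        obtain ⟨x0, x1, rfl⟩ := Submodule.mem_span_pair.1 hx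
        obtain ⟨y0, y1, rfl⟩ := Submodule.mem_span_pair.1 hy
        rw [add_mul, mul_add, mul_add, smul_mul_smul_comm, smul_mul_smul_comm, smul_mul_smul_comm,
          smul_mul_smul_comm, one_mul, one_mul, mul_one]
        exact add_mem (add_mem (Submodule.smul_mem _ _ (Submodule.subset_span (Or.inl rfl)))
          (Submodule.smul_mem _ _ (Submodule.subset_span (Or.inr rfl))))
          (add_mem (Submodule.smul_mem _ _ (Submodule.subset_span (Or.inr rfl))) (Submodule.smul_mem _ _ hsq))
    have h2 : finrank F S = 2 := by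
      show finrank F (Submodule.span F ({1, w} : Set K)) = 2
      rw [show ({1, w} : Set K) = Set.range ![(1 : K), w] by simp [Set.pair_comm], finrank_span_eq_card hli,
        Fintype.card_fin]
    haveI := Subalgebra.isSimpleOrder_of_finrank_prime F K (hdim ▸ Nat.prime_three)
    rcases eq_bot_or_eq_top S with h' | h'
    · rw [h', Subalgebra.finrank_bot] at h2; omega
    · rw [h', Subalgebra.topEquiv.toLinearEquiv.finrank_eq, hdim] at h2; omega
  have h2 := hpoly (α * b) (α * a + β * b - 1) (β * a) (by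
    have h := sub_eq_zero.2 hrel
    rw [← h]
    simp only [Algebra.smul_def, map_mul, map_add, map_sub, map_one]
    ring)
  have hβ : β = 0 := (mul_eq_zero.1 h2).resolve_right ha
  rw [hβ, zero_smul, add_zero, smul_mul_assoc, one_mul, smul_add, smul_smul, smul_smul] at hrel
  obtain ⟨e4, e5⟩ := LinearIndependent.pair_iff.1 hli (α * b) (α * a - 1) (by
    rw [sub_smul, one_smul]; linear_combination (norm := module) hrel)
  rcases mul_eq_zero.1 e4 with h | h
  · rw [h, zero_mul, zero_sub, neg_eq_zero] at e5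
    exact one_ne_zero e5
  · exact hb h

end CfsgLib.Classical.GeoThree.Singer
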