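import Cfsg.Agent.Lib.Classical.GeoThree.Singer.Points

/-!
# No partial root groups over the normaliser of a Singer cycle

`A w` collects the vectors `a` such that `x ↦ x + Tr (a x) w` lies in the group.  Multiplying by `w` makes
these sets constant on the classes of points; the commutator rule then forces a subfield of order `s` with
at most `s²` elements in each of them, which contradicts the equidistribution of the classes on a line.
-/

set_option autoImplicit false
set_option linter.unusedSectionVars false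
set_option linter.style.haveILetI false

open Module

namespace CfsgLib.Classical.GeoThree.Singer

variable {F K : Type*} [Field F] [Field K] [Algebra F K]

local notation "Tr" => Algebra.trace F K

/-- The axes of the transvections with given centres, in a group without full root groups. -/
structure Config (A : K → AddSubgroup K) : Prop where
  perp : ∀ {w a : K}, a ∈ A w → Tr (a * w) = 0
  equivar : ∀ {w a : K} (k : Kˣ), Algebra.norm F (k : K) = 1 → a ∈ A w → a * (k : K)⁻¹ ∈ A ((k : K) * w)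
  scale : ∀ {w a : K} {μ : F}, μ ≠ 0 → a ∈ A w → μ⁻¹ • a ∈ A (μ • w)
  comm : ∀ {w v a b : K}, a ∈ A w → b ∈ A v → Tr (b * w) = 0 → Tr (a * v) • b ∈ A w
  conj : ∀ {w v a b : K}, a ∈ A w → b ∈ A v → b - Tr (b * w) • a ∈ A (v + Tr (a * v) • w)
  noFull : ∀ {w a : K}, w ≠ 0 → a ≠ 0 → a ∈ A w → ∃ c : F, c • a ∉ A w

variable {A : K → AddSubgroup K}

/-- The products of the centre with the vectors of its transvections. -/
def Bset (A : K → AddSubgroup K) (w : K) : AddSubgroup K := (A w).map (AddMonoidHom.mulRight w)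

theorem mem_Bset {w z : K} : z ∈ Bset A w ↔ ∃ a ∈ A w, a * w = z := AddSubgroup.mem_map

theorem trace_Bset (h : Config (F := F) A) {w z : K} (hz : z ∈ Bset A w) : Tr z = 0 := by
  obtain ⟨a, ha, rfl⟩ := mem_Bset.1 hz
  exact h.perp ha

/-- The coefficients of a vector in `Bset A w`. -/
def lineSet (A : K → AddSubgroup K) (w z : K) : AddSubgroup F :=
  (Bset A w).comap ((AddMonoidHom.mulRight z).comp (algebraMap F K).toAddMonoidHom)

theorem mem_lineSet {w z : K} {c : F} : c ∈ lineSet (F := F) A w z ↔ c • z ∈ Bset A w := by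
  rw [Algebra.smul_def]; rfl

theorem smul_noFull (h : Config (F := F) A) {w z : K} (hw : w ≠ 0) (hz : z ≠ 0) :
    lineSet (F := F) A w z ≠ ⊤ := by
  intro htop
  have hmem : ∀ c : F, c • z ∈ Bset A w := fun c => mem_lineSet.1 (htop ▸ AddSubgroup.mem_top c)
  obtain ⟨a, ha, e⟩ := mem_Bset.1 (one_smul F z ▸ hmem 1)
  obtain ⟨c, hc⟩ := h.noFull hw (fun e' => hz (by rw [← e, e', zero_mul])) ha
  obtain ⟨a', ha', e'⟩ := mem_Bset.1 (hmem c)
  have : a' = c • a := mul_right_cancel₀ hw (by rw [e', smul_mul_assoc, e])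
  exact hc (this ▸ ha')

/-- The sets are constant on classes. -/
theorem Bset_class (h : Config (F := F) A) {w : K} (k : Kˣ) (hk : Algebra.norm F (k : K) = 1) {μ : F}
    (hμ : μ ≠ 0) : Bset A w ≤ Bset A (μ • ((k : K) * w)) := by
  intro z hz
  obtain ⟨a, ha, rfl⟩ := mem_Bset.1 hz
  refine mem_Bset.2 ⟨_, h.scale hμ (h.equivar k hk ha), ?_⟩
  rw [smul_mul_smul_comm, inv_mul_cancel₀ hμ, one_smul, mul_assoc, ← mul_assoc _ (k : K),
    inv_mul_cancel₀ k.ne_zero, one_mul]

theorem Bset_eq_of_mem (h : Config (F := F) A) {u v : Kˣ} (huv : (mk (F := F) u)⁻¹ * mk v ∈ H F K) :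
    Bset A (u : K) ≤ Bset A (v : K) := by
  obtain ⟨k, μ, hμ, hk, e⟩ := mem_H.1 huv
  rw [e]
  exact Bset_class h k hk hμ

/-- The commutator rule. -/
theorem cross (h : Config (F := F) A) {w v : Kˣ} {z u : K} (hu0 : u ≠ 0) (y : Kˣ)
    (hz : z ∈ Bset A (w : K)) (hu : u ∈ Bset A (v : K)) (hy : Tr (y : K) = 0)
    (hcls : (mk (F := F) (Units.mk0 u hu0 * w * v⁻¹))⁻¹ * mk y ∈ H F K) :
    Tr (z * u / (y : K)) • (y : K) ∈ Bset A (w : K) := by
  obtain ⟨k, μ, hμ, hk, e⟩ := mem_H.1 hcls
  obtain ⟨a, ha, rfl⟩ := mem_Bset.1 hz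
  obtain ⟨b, hb, rfl⟩ := mem_Bset.1 hu
  simp only [Units.val_mul, Units.val_mk0, Units.val_inv_eq_inv_val] at e
  have hv := v.ne_zero
  have hw := w.ne_zero
  have hk0 := k.ne_zero
  have hb0 : b ≠ 0 := left_ne_zero_of_mul hu0
  have hμK : algebraMap F K μ ≠ 0 := (map_ne_zero _).2 hμ
  have e' : (y : K) = μ • ((k : K) * b * (w : K)) := by
    rw [e]; congr 1; field_simp
  have hk' : Algebra.norm F ((k⁻¹ : Kˣ) : K) = 1 := by
    have h1 : Algebra.norm F ((k : K) * ((k⁻¹ : Kˣ) : K)) = 1 := by rw [Units.mul_inv, map_one]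
    rwa [map_mul, hk, one_mul] at h1
  have hb' := h.equivar k⁻¹ hk' hb
  simp only [Units.val_inv_eq_inv_val, inv_inv] at hb'
  have hperp : Tr (b * (k : K) * (w : K)) = 0 := by
    rw [mul_comm b]
    rw [e', map_smul, smul_eq_zero] at hy
    exact hy.resolve_left hμ
  refine mem_Bset.2 ⟨_, h.comm ha hb' hperp, ?_⟩
  have hq : a * (w : K) * (b * (v : K)) / (μ • ((k : K) * b * (w : K))) = μ⁻¹ • (a * ((k : K)⁻¹ * (v : K))) := by
    simp only [Algebra.smul_def, map_inv₀]
    field_simp
  rw [e', hq, map_smul, smul_eq_mul, smul_smul, mul_comm μ⁻¹, mul_assoc, inv_mul_cancel₀ hμ, mul_one,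
    smul_mul_assoc, mul_comm b]

variable [Finite K]

theorem class_quot {G : Type*} [CommGroup G] (z u w v : G) :
    w⁻¹ * v = (z⁻¹ * (u * w * v⁻¹))⁻¹ * (z⁻¹ * u) := by
  rw [← translate_eq, mul_inv, mul_inv, inv_inv, mul_assoc, mul_comm u⁻¹ w⁻¹, mul_comm v u, mul_assoc,
    ← mul_assoc u⁻¹, inv_mul_cancel, one_mul]

theorem cancel_quot {G : Type*} [CommGroup G] (u w e : G) : w⁻¹ * (u * (w * e⁻¹)) = e⁻¹ * u := by
  rw [mul_left_comm u, inv_mul_cancel_left, mul_comm]

theorem card_stable_dvd {G : Type*} [AddCommGroup G] [Finite G] (D : AddSubgroup G) (T : Set G)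
    (hT : ∀ t ∈ T, ∀ d ∈ D, t + d ∈ T) : Nat.card D ∣ T.ncard := by
  classical
  haveI := Fintype.ofFinite G
  rw [Set.ncard_eq_toFinset_card' T, Finset.card_eq_sum_card_image (QuotientAddGroup.mk : G → G ⧸ D)]
  refine Finset.dvd_sum fun x hx => ?_
  obtain ⟨t, ht, rfl⟩ := Finset.mem_image.1 hx
  rw [Set.mem_toFinset] at ht
  rw [Nat.card_eq_fintype_card, ← Finset.card_univ]
  refine dvd_of_eq (Finset.card_bij (fun d _ => t + (d : G)) (fun d _ => ?_) (fun _ _ _ _ e => Subtype.ext (add_left_cancel e))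
    fun y hy => ?_)
  · rw [Finset.mem_filter, Set.mem_toFinset]
    exact ⟨hT t ht _ d.2, QuotientAddGroup.eq.2 (by simp)⟩
  · rw [Finset.mem_filter] at hy
    exact ⟨⟨-t + y, QuotientAddGroup.eq.1 hy.2.symm⟩, Finset.mem_univ _, add_neg_cancel_left t y⟩

variable (hdim : finrank F K = 3)
include hdim

/-- A vector of `Bset A w` outside a given line, whenever two points carry one. -/
theorem exists_pairing (h : Config (F := F) A) {w z z' : K} (hz : z ∈ Bset A w) (hz' : z' ∈ Bset A w)
    (hz0 : z ≠ 0) (hind : ∀ μ : F, μ • z ≠ z') {r : K} (hr : ∀ μ : F, r ≠ μ • 1) :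
    ∃ x ∈ Bset A w, Tr (r * x) ≠ 0 := by
  by_contra hall
  push Not at hall
  obtain ⟨μ, hμ⟩ := eq_scalar_of_trace (F := F) (u := r) fun t ht => by
    obtain ⟨a, b, rfl⟩ := exists_comb hdim (trace_Bset h hz) (trace_Bset h hz') ht hz0 hind
    rw [mul_add, mul_smul_comm, mul_smul_comm, map_add, map_smul, map_smul, hall z hz, hall z' hz',
      smul_zero, smul_zero, add_zero]
  exact hr μ hμ

omit hdim in
theorem class_square_le {q a b c : ℕ} (hs : a + b + c = q + 1) (hq : 3 * (a ^ 2 + b ^ 2 + c ^ 2) = q ^ 2 + 4 * q + 1) :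
    (3 * (a : ℤ) - (q + 1)) ^ 2 ≤ 4 * q := by
  have h1 : (a : ℤ) + b + c = q + 1 := by exact_mod_cast hs
  have h2 : 3 * ((a : ℤ) ^ 2 + b ^ 2 + c ^ 2) = q ^ 2 + 4 * q + 1 := by exact_mod_cast hq
  have := sq_nonneg ((b : ℤ) - c)
  nlinarith

theorem three_le_num {g : Pt F K}
    (hq : Nat.gcd 3 (Nat.card F - 1) = 1 ∨ 12 ≤ Nat.card F) : 3 ≤ num F K g := by
  haveI : Finite F := Finite.of_injective _ (algebraMap F K).injective
  have h2 : 2 ≤ Nat.card F := Finite.one_lt_card
  by_cases hc : Nat.gcd 3 (Nat.card F - 1) = 1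
  · rw [num_eq_of_coprime hdim hc]; omega
  · obtain ⟨b, c, h1, h2⟩ := num_cases hdim hc g
    have h12 := hq.resolve_left hc
    have h := class_square_le h1 h2
    by_contra hlt
    push Not at hlt
    have : (num F K g : ℤ) ≤ 2 := by omega
    have : (12 : ℤ) ≤ Nat.card F := by exact_mod_cast h12
    nlinarith

/-- A subfield of order `s`, at most `s²` vectors, and a class whose points all carry `s` of them. -/
theorem core (h : Config (F := F) A) {w : Kˣ} (hB : Bset A (w : K) ≠ ⊥) (hn : ∀ g : Pt F K, 3 ≤ num F K g) :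
    ∃ (z : Kˣ) (s m : ℕ), (z : K) ∈ Bset A (w : K) ∧ 2 ≤ s ∧ 2 ≤ m ∧ Nat.card F = s ^ m ∧
      Nat.card (Bset A (w : K)) ≤ s ^ 2 ∧
      ∀ y : Kˣ, Tr (y : K) = 0 → (mk (F := F) z)⁻¹ * mk y ∈ H F K → s ≤ Nat.card (lineSet (F := F) A (w : K) y) := by
  classical
  haveI : Finite F := Finite.of_injective _ (algebraMap F K).injective
  haveI := Fintype.ofFinite K
  obtain ⟨z₀, hz₀, hz₀0⟩ : ∃ z₀ ∈ Bset A (w : K), z₀ ≠ 0 := by
    by_contra hall
    push Not at hall
    exact hB ((AddSubgroup.eq_bot_iff_forall _).2 hall)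
  obtain ⟨x, hxW, hx⟩ := Finset.exists_max_image (Finset.univ.filter fun z : K => z ∈ Bset A (w : K) ∧ z ≠ 0)
    (fun z => Nat.card (lineSet (F := F) A (w : K) z)) ⟨z₀, by simp [hz₀, hz₀0]⟩
  simp only [Finset.mem_filter, Finset.mem_univ, true_and] at hxW hx
  set z : Kˣ := Units.mk0 x hxW.2 with hz
  set L := lineSet (F := F) A (w : K) x with hL
  set s := Nat.card L with hs
  have hmax : ∀ y : K, y ≠ 0 → Nat.card (lineSet (F := F) A (w : K) y) ≤ s := by
    intro y hy
    rcases eq_or_ne (lineSet (F := F) A (w : K) y) ⊥ with e | e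
    · rw [e, AddSubgroup.card_bot]; exact Nat.card_pos
    · obtain ⟨c, hc, hc0⟩ : ∃ c ∈ lineSet (F := F) A (w : K) y, c ≠ (0 : F) := by
        by_contra hall
        push Not at hall
        exact e ((AddSubgroup.eq_bot_iff_forall _).2 hall)
      refine le_trans (le_of_eq ?_) (hx (c • y) ⟨mem_lineSet.1 hc, smul_ne_zero hc0 hy⟩)
      refine Nat.card_congr
        { toFun := fun l => ⟨l.1 / c, mem_lineSet.2 (by
            rw [smul_smul, div_mul_cancel₀ _ hc0]; exact mem_lineSet.1 l.2)⟩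
          invFun := fun l => ⟨l.1 * c, mem_lineSet.2 (by rw [mul_smul]; exact mem_lineSet.1 l.2)⟩
          left_inv := fun l => Subtype.ext (div_mul_cancel₀ _ hc0)
          right_inv := fun l => Subtype.ext (mul_div_cancel_right₀ _ hc0) }
  have h1L : (1 : F) ∈ L := mem_lineSet.2 (by rw [one_smul]; exact hxW.1)
  have hs2 : 2 ≤ s := Finite.one_lt_card_iff_nontrivial.2 ⟨⟨1, h1L⟩, 0, fun e => one_ne_zero (congrArg Subtype.val e)⟩
  -- the rule at the class of `z`
  have rule : ∀ (y : Kˣ), Tr (y : K) = 0 → (mk (F := F) z)⁻¹ * mk y ∈ H F K → ∀ z' ∈ Bset A (w : K),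
      ∀ c ∈ L, c * Tr (x * z' / (y : K)) ∈ lineSet (F := F) A (w : K) y := by
    intro y hy hcls z' hz' c hc
    rcases eq_or_ne c 0 with rfl | hc0
    · rw [zero_mul]; exact zero_mem _
    have := cross h (smul_ne_zero hc0 hxW.2) y hz' (mem_lineSet.1 hc) hy (by
      rw [mul_inv_cancel_right, show mk (F := F) (Units.mk0 (c • x) (smul_ne_zero hc0 hxW.2)) = mk z from
        (mk_eq_mk.2 ⟨c, hc0, by rw [hz, Units.val_mk0, Units.val_mk0]⟩).symm]
      exact hcls)
    rw [mem_lineSet]
    convert this using 2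
    rw [mul_smul_comm, smul_div_assoc, map_smul, smul_eq_mul, mul_comm z' x]
  -- a point of the class off the conic
  obtain ⟨y, hyW, hycls, hyc⟩ : ∃ y : Kˣ, Tr (y : K) = 0 ∧ (mk (F := F) z)⁻¹ * mk y ∈ H F K ∧
      Tr (x * x / (y : K)) ≠ 0 := by
    by_contra hall
    push Not at hall
    have hsub : {g ∈ W F K | (mk z)⁻¹ * g ∈ H F K} ⊆
        {g | ∃ u : Kˣ, mk u = g ∧ Tr (u : K) = 0 ∧ Tr (x * x * ((u⁻¹ : Kˣ) : K)) = 0} := by
      rintro g ⟨⟨u, rfl, hu⟩, hcls⟩
      refine ⟨u, rfl, hu, ?_⟩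
      rw [Units.val_inv_eq_inv_val, ← div_eq_mul_inv]
      exact hall u hu hcls
    have := (Set.ncard_le_ncard hsub (Set.toFinite _)).trans (ncard_conic_le hdim (mul_ne_zero hxW.2 hxW.2))
    have := hn (mk z)
    unfold num at this
    omega
  set c := Tr (x * x / (y : K)) with hcdef
  set L' := lineSet (F := F) A (w : K) (y : K)
  have hmap : ∀ l ∈ L, l * c ∈ L' := fun l hl => rule y hyW hycls x hxW.1 l hl
  have hrule2 : ∀ l ∈ L, ∀ l' ∈ L, l * l' * c ∈ L' := fun l hl l' hl' => by
    have := rule y hyW hycls _ (mem_lineSet.1 hl') l hl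
    rwa [mul_smul_comm, smul_div_assoc, map_smul, smul_eq_mul, ← mul_assoc, ← hcdef] at this
  have hsur : ∀ d ∈ L', ∃ l ∈ L, d = l * c := by
    let f : L → L' := fun l => ⟨l.1 * c, hmap l.1 l.2⟩
    have hf : Function.Injective f := fun a b e => Subtype.ext (mul_right_cancel₀ hyc (congrArg Subtype.val e))
    have hbij := hf.bijective_of_nat_card_le (hmax y y.ne_zero)
    intro d hd
    obtain ⟨l, e⟩ := hbij.2 ⟨d, hd⟩
    exact ⟨l, l.2, (congrArg Subtype.val e).symm⟩
  have hmul : ∀ l ∈ L, ∀ l' ∈ L, l * l' ∈ L := fun l hl l' hl' => by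
    obtain ⟨m, hm, e⟩ := hsur _ (hrule2 l hl l' hl')
    rwa [mul_right_cancel₀ hyc e]
  let k : Subfield F :=
    { toSubring :=
        { carrier := L
          mul_mem' := fun ha hb => hmul _ ha _ hb
          one_mem' := h1L
          add_mem' := fun ha hb => L.add_mem ha hb
          zero_mem' := L.zero_mem
          neg_mem' := fun ha => L.neg_mem ha }
      inv_mem' := fun l hl => by
        rcases eq_or_ne l 0 with rfl | h0
        · rw [inv_zero]; exact L.zero_mem
        · let g : L → L := fun x => ⟨x.1 * l, hmul _ x.2 _ hl⟩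
          have hg : Function.Injective g := fun a b e => Subtype.ext (mul_right_cancel₀ h0 (congrArg Subtype.val e))
          obtain ⟨t, ht⟩ := (Finite.injective_iff_surjective.1 hg) ⟨1, h1L⟩
          rw [inv_eq_of_mul_eq_one_left (congrArg Subtype.val ht)]
          exact t.2 }
  have hpow : Nat.card F = s ^ finrank k F := Module.natCard_eq_pow_finrank (K := k) (V := F)
  have hm2 : 2 ≤ finrank k F := by
    by_contra hlt
    push Not at hlt
    have hlt' : finrank k F = 1 := by
      have := Module.finrank_pos (R := k) (M := F)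
      omega
    rw [hlt', pow_one] at hpow
    refine smul_noFull h w.ne_zero hxW.2 ?_
    exact AddSubgroup.eq_top_of_card_eq _ hpow.symm
  have hcard : Nat.card (Bset A (w : K)) ≤ s ^ 2 := by
    have hψ : ∀ v ∈ Bset A (w : K), Tr (x * v / (y : K)) ∈ L' := fun v hv => by
      simpa using rule y hyW hycls v hv 1 h1L
    let ψ : Bset A (w : K) →+ L' :=
      { toFun := fun v => ⟨Tr (x * v.1 / (y : K)), hψ v.1 v.2⟩
        map_zero' := Subtype.ext (by simp)
        map_add' := fun u v => Subtype.ext (by simp [mul_add, add_div]) }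
    rw [AddSubgroup.card_eq_card_quotient_mul_card_addSubgroup ψ.ker, sq]
    refine Nat.mul_le_mul ?_ ?_
    · rw [Nat.card_congr (QuotientAddGroup.quotientKerEquivRange ψ).toEquiv]
      exact (AddSubgroup.card_le_card_addGroup _).trans (hmax y y.ne_zero)
    · by_cases he : ∃ e : ψ.ker, (e.1.1 : K) ≠ 0
      · obtain ⟨e, he0⟩ := he
        have hline : ∀ v : ψ.ker, ∃ l : F, l • (e.1.1 : K) = v.1.1 := by
          intro v
          by_contra hno
          push Not at hno
          have hye : ∀ μ : F, x / (y : K) ≠ μ • 1 := fun μ e' => by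
            apply hyc
            rw [hcdef, mul_div_assoc, e', mul_smul_comm, mul_one, map_smul, trace_Bset h hxW.1, smul_zero]
          have hkv : ∀ u : ψ.ker, Tr (x / (y : K) * u.1.1) = 0 := fun u => by
            rw [div_mul_eq_mul_div]; exact congrArg Subtype.val (AddMonoidHom.mem_ker.1 u.2)
          obtain ⟨μ, hμ⟩ := eq_scalar_of_trace (F := F) (u := x / (y : K)) fun t ht => by
            obtain ⟨a, b, rfl⟩ := exists_comb hdim (trace_Bset h e.1.2) (trace_Bset h v.1.2) ht he0 hno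
            rw [mul_add, mul_smul_comm, mul_smul_comm, map_add, map_smul, map_smul, hkv e, hkv v, smul_zero,
              smul_zero, add_zero]
          exact hye μ hμ
        choose l hl using hline
        refine (Nat.card_le_card_of_injective
          (fun v => (⟨l v, mem_lineSet.2 (by rw [hl]; exact v.1.2)⟩ : lineSet (F := F) A (w : K) e.1.1))
          fun u v huv => ?_).trans (hmax _ he0)
        have := congrArg Subtype.val huv
        refine Subtype.ext (Subtype.ext ?_)
        rw [← hl u, ← hl v, show l u = l v from this]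
      · push Not at he
        haveI : Subsingleton ψ.ker := ⟨fun u v => Subtype.ext (Subtype.ext ((he u).trans (he v).symm))⟩
        rw [Nat.card_of_subsingleton (0 : ψ.ker)]
        omega
  refine ⟨z, s, finrank k F, hxW.1, hs2, hm2, hpow, hcard, fun v hv hvcls => ?_⟩
  by_cases hscal : ∃ μ : F, x / (v : K) = μ • 1
  · obtain ⟨μ, hμ⟩ := hscal
    have hμ0 : μ ≠ 0 := fun e => div_ne_zero hxW.2 v.ne_zero (by rw [hμ, e, zero_smul])
    have hxv : x = μ • (v : K) := by
      rw [← div_mul_cancel₀ x v.ne_zero, hμ, smul_mul_assoc, one_mul]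
    refine Nat.card_le_card_of_injective
      (fun l : L => (⟨l.1 * μ, mem_lineSet.2 (by
        rw [mul_smul, ← hxv]; exact mem_lineSet.1 l.2)⟩ : lineSet (F := F) A (w : K) v)) fun a b e => ?_
    exact Subtype.ext (mul_right_cancel₀ hμ0 (congrArg Subtype.val e))
  · push Not at hscal
    have hcy : c ∈ L' := by simpa using hmap 1 h1L
    obtain ⟨z', hz', hne⟩ := exists_pairing hdim h hxW.1 (mem_lineSet.1 hcy) hxW.2 (fun μ e => by
      apply hyc
      have hμ0 : μ ≠ 0 := fun h0 => smul_ne_zero hyc y.ne_zero (by rw [← e, h0, zero_smul])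
      have hxy : (y : K) = (μ / c) • x := by
        rw [div_eq_mul_inv, mul_comm, mul_smul, e, inv_smul_smul₀ hyc]
      rw [hcdef, hxy, Algebra.smul_def, mul_div_mul_right _ _ hxW.2, div_eq_mul_inv, ← map_inv₀, mul_comm x,
        ← Algebra.smul_def, map_smul, trace_Bset h hxW.1, smul_zero]) hscal
    refine Nat.card_le_card_of_injective
      (fun l : L => (⟨l.1 * Tr (x * z' / (v : K)), rule v hv hvcls z' hz' l.1 l.2⟩ :
        lineSet (F := F) A (w : K) v)) fun a b e => ?_
    refine Subtype.ext (mul_right_cancel₀ ?_ (congrArg Subtype.val e))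
    rwa [← div_mul_eq_mul_div]

/-- Counting the vectors by their points. -/
theorem sum_lineSet_le (h : Config (F := F) A) (w : K) (S : Finset (Pt F K)) (f : Pt F K → ℕ)
    (hS : ∀ g ∈ S, ∃ u : Kˣ, mk u = g ∧ f g + 1 ≤ Nat.card (lineSet (F := F) A w u)) :
    ∑ g ∈ S, f g + 1 ≤ Nat.card (Bset A w) := by
  classical
  haveI : Finite F := Finite.of_injective _ (algebraMap F K).injective
  haveI := Fintype.ofFinite K
  haveI := Fintype.ofFinite F
  set B := (Finset.univ.filter fun z : K => z ∈ Bset A w).erase 0 with hBdef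
  have hBcard : B.card + 1 = Nat.card (Bset A w) := by
    rw [hBdef, Finset.card_erase_add_one (by simp), Nat.card_eq_fintype_card, Fintype.card_subtype]
  let pt : K → Pt F K := fun z => if hz : z = 0 then 1 else mk (Units.mk0 z hz)
  have hle : ∀ g ∈ S, f g ≤ (B.filter fun z => pt z = g).card := by
    intro g hg
    obtain ⟨u, rfl, hu⟩ := hS g hg
    set L := (Finset.univ.filter fun c : F => c ∈ lineSet (F := F) A w u).erase 0 with hLdef
    have hLc : L.card + 1 = Nat.card (lineSet (F := F) A w u) := by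
      rw [hLdef, Finset.card_erase_add_one (by simp), Nat.card_eq_fintype_card, Fintype.card_subtype]
    refine (show f (mk u) ≤ L.card by omega).trans
      (Finset.card_le_card_of_injOn (fun c => c • (u : K)) (fun c hc => ?_) fun a _ b _ e => ?_)
    · simp only [hLdef, Finset.coe_erase, Finset.coe_filter, Set.mem_diff, Set.mem_setOf_eq, Finset.mem_univ,
        true_and, Set.mem_singleton_iff] at hc
      have hne : c • (u : K) ≠ 0 := smul_ne_zero hc.2 u.ne_zero
      simp only [hBdef, Finset.coe_filter, Set.mem_setOf_eq, Finset.mem_erase, Finset.mem_filter, Finset.mem_univ,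
        true_and]
      refine ⟨⟨hne, mem_lineSet.1 hc.1⟩, ?_⟩
      simp only [pt, dif_neg hne]
      exact (mk_eq_mk.2 ⟨c, hc.2, by rw [Units.val_mk0]⟩).symm
    · exact smul_left_injective F u.ne_zero e
  have h1 : ∑ g ∈ S, (B.filter fun z => pt z = g).card ≤ B.card := by
    rw [← Finset.card_biUnion fun a _ b _ hab => Finset.disjoint_left.2 fun z ha hb =>
      hab ((Finset.mem_filter.1 ha).2.symm.trans (Finset.mem_filter.1 hb).2)]
    exact Finset.card_le_card (Finset.biUnion_subset.2 fun g _ => Finset.filter_subset _ _)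
  have := Finset.sum_le_sum hle
  omega

omit hdim in
/-- The class counts on a line of sixteen plus one points. -/
theorem sixteen_values {a b c : ℕ} (hs : a + b + c = 17) (hq : 3 * (a ^ 2 + b ^ 2 + c ^ 2) = 321) :
    a = 3 ∨ a = 7 := by
  have key : ∀ x < 18, ∀ y < 18, x + y ≤ 17 → x ^ 2 + y ^ 2 + (17 - x - y) ^ 2 = 107 → x = 3 ∨ x = 7 := by
    decide
  obtain rfl : c = 17 - a - b := by omega
  exact key a (by omega) b (by omega) (by omega) (by omega)

omit hdim in
/-- The class counts on a line of twenty-five plus one points. -/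
theorem twentyfive_values {a b c : ℕ} (hs : a + b + c = 26) (hq : 3 * (a ^ 2 + b ^ 2 + c ^ 2) = 726) :
    7 ≤ a := by
  have key : ∀ x < 7, ∀ y < 27, x + y ≤ 26 → x ^ 2 + y ^ 2 + (26 - x - y) ^ 2 ≠ 242 := by decide
  obtain rfl : c = 26 - a - b := by omega
  by_contra h
  exact key a (by omega) b (by omega) (by omega) (by omega)

omit hdim in
/-- The only parameters left by the counts. -/
theorem parameters {q t m n b c : ℕ} (hq : q = (t + 1) ^ m) (hm : 2 ≤ m) (ht : 1 ≤ t) (h12 : 12 ≤ q)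
    (h49 : q < 49) (h3 : 3 ∣ q - 1) (hn : n * t + 1 ≤ (t + 1) ^ 2) (hs : n + b + c = q + 1)
    (hsq : 3 * (n ^ 2 + b ^ 2 + c ^ 2) = q ^ 2 + 4 * q + 1) : q = 16 ∧ n = 3 ∧ (t = 1 ∨ t = 3) := by
  have ht7 : t < 7 := by
    have : (t + 1) ^ 2 ≤ q := hq ▸ Nat.pow_le_pow_right (by omega) hm
    by_contra h
    push Not at h
    have : (7 + 1) ^ 2 ≤ (t + 1) ^ 2 := Nat.pow_le_pow_left (by omega) 2
    omega
  have hm6 : m < 6 := by
    by_contra h6
    push Not at h6
    have : 2 ^ 6 ≤ (t + 1) ^ m := (Nat.pow_le_pow_right (by norm_num) h6).trans (Nat.pow_le_pow_left (by omega) _)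
    omega
  have h : (q = 16 ∧ (t = 1 ∨ t = 3)) ∨ (q = 25 ∧ t = 4) := by
    interval_cases t <;> interval_cases m <;> omega
  rcases h with ⟨rfl, ht'⟩ | ⟨rfl, rfl⟩
  · refine ⟨rfl, ?_, ht'⟩
    have := sixteen_values (a := n) (b := b) (c := c) (by omega) (by omega)
    rcases ht' with rfl | rfl <;> omega
  · have := twentyfive_values (a := n) (b := b) (c := c) (by omega) (by omega)
    omega

/-- There is no configuration unless `q = 4`. -/
theorem config_false (h : Config (F := F) A) (hq : Nat.card F ≠ 4) {w : Kˣ} (hB : Bset A (w : K) ≠ ⊥) :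
    False := by
  classical
  haveI : Finite F := Finite.of_injective _ (algebraMap F K).injective
  set q := Nat.card F with hqdef
  have hn : ∀ g : Pt F K, 3 ≤ num F K g := by
    intro g
    refine three_le_num hdim ?_
    by_cases hc : Nat.gcd 3 (q - 1) = 1
    · exact .inl hc
    right
    by_contra hlt
    push Not at hlt
    have h3 : 3 ∣ q - 1 := by
      rcases (Nat.dvd_prime Nat.prime_three).1 (Nat.gcd_dvd_left 3 (q - 1)) with e | e
      · exact absurd e hc
      · exact e ▸ Nat.gcd_dvd_right _ _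
    obtain ⟨p, hp⟩ := CharP.exists F
    haveI := Fintype.ofFinite F
    obtain ⟨e, hpp, hqe⟩ := FiniteField.card F p
    rw [← Nat.card_eq_fintype_card, ← hqdef] at hqe
    have hne1 : (e : ℕ) ≠ 1 := by
      intro he
      obtain ⟨z, hz, hz0⟩ : ∃ z ∈ Bset A (w : K), z ≠ 0 := by
        by_contra hall
        push Not at hall
        exact hB ((AddSubgroup.eq_bot_iff_forall _).2 hall)
      refine smul_noFull h w.ne_zero hz0 (eq_top_iff.2 fun c _ => mem_lineSet.2 ?_)
      rw [he, pow_one] at hqe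
      haveI : Fact p.Prime := ⟨hpp⟩
      obtain ⟨k, rfl⟩ := (ZMod.castHom_bijective (R := F) (n := p) (by
        rw [← hqe, hqdef, Nat.card_eq_fintype_card])).2 c
      obtain ⟨m, rfl⟩ := ZMod.natCast_zmod_surjective k
      rw [map_natCast, Nat.cast_smul_eq_nsmul]
      exact nsmul_mem hz m
    have he2 : 2 ≤ (e : ℕ) := by have := e.pos; omega
    have h2p := hpp.two_le
    have hp4 : p < 4 := by
      by_contra h4
      have : 4 ^ 2 ≤ p ^ (e : ℕ) := (Nat.pow_le_pow_left (not_lt.1 h4) 2).trans (Nat.pow_le_pow_right hpp.pos he2)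
      omega
    have he4 : (e : ℕ) < 4 := by
      by_contra h4
      have : 2 ^ 4 ≤ p ^ (e : ℕ) := (Nat.pow_le_pow_right (by norm_num) (not_lt.1 h4)).trans (Nat.pow_le_pow_left h2p _)
      omega
    interval_cases p <;> interval_cases (e : ℕ) <;> omega
  -- the class of the subfield
  have key : ∀ v : Kˣ, Bset A (v : K) ≠ ⊥ → ∃ (z : Kˣ) (s m : ℕ), (z : K) ∈ Bset A (v : K) ∧ 2 ≤ s ∧ 2 ≤ m ∧
      q = s ^ m ∧ Nat.card (Bset A (v : K)) ≤ s ^ 2 ∧ num F K (mk z) * (s - 1) + 1 ≤ Nat.card (Bset A (v : K)) ∧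
      ∀ y : Kˣ, Tr (y : K) = 0 → (mk (F := F) z)⁻¹ * mk y ∈ H F K → s ≤ Nat.card (lineSet (F := F) A (v : K) y) := by
    intro v hv
    obtain ⟨z, s, m, hz, hs, hm, hqs, hcard, hall⟩ := core hdim h hv hn
    refine ⟨z, s, m, hz, hs, hm, hqs, hcard, ?_, hall⟩
    have := sum_lineSet_le hdim h (v : K) (Set.toFinite {g ∈ W F K | (mk z)⁻¹ * g ∈ H F K}).toFinset
      (fun _ => s - 1) (fun g hg => by
        rw [Set.Finite.mem_toFinset] at hg
        obtain ⟨⟨u, rfl, hu⟩, hcls⟩ := hg
        exact ⟨u, rfl, by have := hall u hu hcls; omega⟩)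
    rw [Finset.sum_const, smul_eq_mul, ← Set.ncard_eq_toFinset_card] at this
    exact this
  obtain ⟨z, s, m, hz, hs, hm, hqs, hcard, hcount, hall⟩ := key w hB
  set n := num F K (mk z) with hndef
  obtain ⟨t, rfl⟩ : ∃ t, s = t + 1 := ⟨s - 1, by omega⟩
  rw [Nat.add_sub_cancel] at hcount
  have hns : n ≤ t + 2 := by
    by_contra hlt
    push Not at hlt
    nlinarith
  have hsq : (t + 1) ^ 2 ≤ q := hqs ▸ Nat.pow_le_pow_right (by omega) hm
  by_cases hc : Nat.gcd 3 (q - 1) = 1
  · have e : n = q + 1 := num_eq_of_coprime hdim hc (mk z)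
    nlinarith
  obtain ⟨b, c, hsum, hsq3⟩ := num_cases hdim hc (mk z)
  rw [← hndef, ← hqdef] at hsum hsq3
  have hineq := class_square_le hsum hsq3
  have h3 : 3 ∣ q - 1 := by
    rcases (Nat.dvd_prime Nat.prime_three).1 (Nat.gcd_dvd_left 3 (q - 1)) with e | e
    · exact absurd e hc
    · exact e ▸ Nat.gcd_dvd_right _ _
  have hq49 : q < 49 := by
    by_contra h49
    push Not at h49
    have : (49 : ℤ) ≤ q := by exact_mod_cast h49
    have : ((t : ℤ) + 1) ^ 2 ≤ q := by exact_mod_cast hsq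
    have : (n : ℤ) ≤ t + 2 := by exact_mod_cast hns
    have := sq_nonneg ((t : ℤ) + 1 - 3)
    nlinarith
  -- only sixteen elements remain
  have h12 : 12 ≤ q := by
    by_contra h12
    push Not at h12
    have ht4 : t < 4 := by nlinarith
    have hm4 : m < 4 := by
      by_contra h4
      push Not at h4
      have : 2 ^ 4 ≤ (t + 1) ^ m := (Nat.pow_le_pow_right (by norm_num) h4).trans (Nat.pow_le_pow_left (by omega) _)
      omega
    interval_cases t <;> interval_cases m <;> omega
  have h16 := parameters hqs hm (by omega) h12 hq49 h3 (hcount.trans hcard) hsum hsq3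
  obtain ⟨hq16, hn3, ht13⟩ := h16
  -- all centres lie in one class
  have hone : ∀ v : Kˣ, Bset A (v : K) ≠ ⊥ → (mk (F := F) w)⁻¹ * mk v ∈ H F K := by
    intro v hv
    by_contra hne
    obtain ⟨u, s', m', hu, hs', hm', hqs', hcard', hcount', -⟩ := key v hv
    obtain ⟨t', rfl⟩ : ∃ t', s' = t' + 1 := ⟨s' - 1, by omega⟩
    rw [Nat.add_sub_cancel] at hcount'
    have hu3 : num F K (mk u) = 3 := by
      obtain ⟨b', c', h1, h2⟩ := num_cases hdim hc (mk u)
      rw [← hqdef, hq16] at h1 h2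
      exact (parameters (b := b') (c := c') (hq16 ▸ hqs') hm' (by omega) (by norm_num) (by norm_num) (by norm_num)
        (hcount'.trans hcard') h1 h2).2.1
    have huz : (mk (F := F) z)⁻¹ * mk u ∈ H F K := by
      by_contra hne'
      obtain ⟨g₃, h1, h2⟩ := num_three hdim hc hne'
      rw [← hndef, hn3, hu3, ← hqdef, hq16] at h1 h2
      rw [show num F K g₃ = 11 by omega] at h2
      norm_num at h2
    set g := Units.mk0 (u : K) u.ne_zero * w * v⁻¹ with hg
    have hgz : (mk (F := F) z)⁻¹ * mk g ∉ H F K := by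
      intro hgz
      apply hne
      have e : (mk (F := F) w)⁻¹ * mk v = ((mk z)⁻¹ * mk g)⁻¹ * ((mk z)⁻¹ * mk u) := by
        rw [show mk (F := F) g = mk u * mk w * (mk v)⁻¹ by rw [hg, Units.mk0_val, map_mul, map_mul, map_inv]]
        exact class_quot _ _ _ _
      rw [e]
      exact Subgroup.mul_mem _ (inv_mem hgz) huz
    have hg7 : num F K (mk g) = 7 := by
      obtain ⟨g₃, h1, h2⟩ := num_three hdim hc hgz
      rw [← hndef, hn3, ← hqdef, hq16] at h1 h2
      rcases sixteen_values (a := num F K (mk g)) (b := 3) (c := num F K g₃) (by omega) (by omega) with e | e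
      · exfalso
        rw [e] at h1 h2
        rw [show num F K g₃ = 11 by omega] at h2
        norm_num at h2
      · exact e
    set S1 := (Set.toFinite {y ∈ W F K | (mk z)⁻¹ * y ∈ H F K}).toFinset
    set S2 := (Set.toFinite {y ∈ W F K | (mk g)⁻¹ * y ∈ H F K}).toFinset
    have hdisj : Disjoint S1 S2 := by
      rw [Finset.disjoint_left]
      intro y hy hy'
      simp only [S1, S2, Set.Finite.mem_toFinset, Set.mem_setOf_eq] at hy hy'
      apply hgz
      have := Subgroup.mul_mem _ hy.2 (inv_mem hy'.2)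
      rwa [mul_inv_rev, inv_inv, mul_assoc, mul_inv_cancel_left] at this
    have hbound := sum_lineSet_le hdim h (w : K) (S1 ∪ S2) (fun y => if y ∈ S1 then t else 1) (fun y hy => by
      by_cases hy1 : y ∈ S1
      · rw [if_pos hy1]
        simp only [S1, Set.Finite.mem_toFinset, Set.mem_setOf_eq] at hy1
        obtain ⟨⟨x, rfl, hx⟩, hcls⟩ := hy1
        exact ⟨x, rfl, hall x hx hcls⟩
      · rw [if_neg hy1]
        have hy2 := (Finset.mem_union.1 hy).resolve_left hy1
        simp only [S2, Set.Finite.mem_toFinset, Set.mem_setOf_eq] at hy2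
        obtain ⟨⟨x, rfl, hx⟩, hcls⟩ := hy2
        refine ⟨x, rfl, Finite.one_lt_card_iff_nontrivial.2 ?_⟩
        -- a second direction
        obtain ⟨y', hy'W, hy'cls, hy'ne⟩ : ∃ y' : Kˣ, Tr (y' : K) = 0 ∧ (mk (F := F) z)⁻¹ * mk y' ∈ H F K ∧
            mk (F := F) y' ≠ mk z := by
          by_contra hall'
          push Not at hall'
          have hsub : {y ∈ W F K | (mk z)⁻¹ * y ∈ H F K} ⊆ {mk z} := by
            rintro y ⟨⟨u', rfl, hu'⟩, hcls'⟩
            exact hall' u' hu' hcls'
          have := Set.ncard_le_ncard hsub (Set.toFinite _)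
          rw [Set.ncard_singleton] at this
          have h3 := hn (mk z)
          unfold num at h3
          omega
        obtain ⟨l, hl, hl0⟩ : ∃ l ∈ lineSet (F := F) A (w : K) y', l ≠ (0 : F) := by
          by_contra hall'
          push Not at hall'
          have h2' := hall y' hy'W hy'cls
          rw [(AddSubgroup.eq_bot_iff_forall _).2 hall', AddSubgroup.card_bot] at h2'
          omega
        have hind : ∀ μ : F, μ • (z : K) ≠ l • (y' : K) := fun μ e => by
          have hμ0 : μ ≠ 0 := fun h0 => smul_ne_zero hl0 y'.ne_zero (by rw [← e, h0, zero_smul])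
          refine hy'ne (mk_eq_mk.2 ⟨l / μ, div_ne_zero hl0 hμ0, ?_⟩)
          rw [div_eq_mul_inv, mul_comm, mul_smul, ← e, inv_smul_smul₀ hμ0]
        have hscal : ∀ μ : F, (u : K) / (x : K) ≠ μ • 1 := fun μ e => by
          have hμ0 : μ ≠ 0 := fun h0 => div_ne_zero u.ne_zero x.ne_zero (by rw [e, h0, zero_smul])
          have hxu : mk (F := F) x = mk u := mk_eq_mk.2 ⟨μ, hμ0, by
            rw [← div_mul_cancel₀ (u : K) x.ne_zero, e, smul_mul_assoc, one_mul]⟩
          apply hgz
          have := Subgroup.mul_mem _ (hxu ▸ huz) (inv_mem hcls)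
          rwa [mul_inv_rev, inv_inv, mul_assoc, mul_inv_cancel_left] at this
        obtain ⟨z'', hz'', hne''⟩ := exists_pairing hdim h hz (mem_lineSet.1 hl) z.ne_zero hind hscal
        refine ⟨⟨Tr (z'' * (u : K) / (x : K)), mem_lineSet.2 (cross h u.ne_zero x hz'' hu hx hcls)⟩, 0, ?_⟩
        intro e0
        apply hne''
        rw [div_mul_eq_mul_div, mul_comm]
        exact congrArg Subtype.val e0)
    rw [Finset.sum_union hdisj] at hbound
    have e1 : ∑ y ∈ S1, (if y ∈ S1 then t else 1) = 3 * t := by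
      rw [Finset.sum_congr rfl fun y hy => if_pos hy, Finset.sum_const, smul_eq_mul,
        ← Set.ncard_eq_toFinset_card]
      change num F K (mk z) * t = 3 * t
      rw [← hndef, hn3]
    have e2 : ∑ y ∈ S2, (if y ∈ S1 then t else 1) = 7 := by
      rw [Finset.sum_congr rfl fun y hy => if_neg fun hy' => Finset.disjoint_left.1 hdisj hy' hy, Finset.sum_const,
        smul_eq_mul, mul_one, ← Set.ncard_eq_toFinset_card]
      exact hg7
    rw [e1, e2] at hbound
    rcases ht13 with rfl | rfl <;> omega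
  -- a line through the centre which is no axis
  have hB16 : Nat.card (Bset A (w : K)) ≤ 16 := hcard.trans (by rcases ht13 with rfl | rfl <;> norm_num)
  obtain ⟨e, heW, hedir⟩ : ∃ e : Kˣ, Tr (e : K) = 0 ∧ lineSet (F := F) A (w : K) e = ⊥ := by
    by_contra hall'
    push Not at hall'
    have := sum_lineSet_le hdim h (w : K) (Set.toFinite (W F K)).toFinset (fun _ => 1) (fun g hg => by
      rw [Set.Finite.mem_toFinset] at hg
      obtain ⟨u, rfl, hu⟩ := hg
      exact ⟨u, rfl, (AddSubgroup.one_lt_card_iff_ne_bot _).2 (hall' u hu)⟩)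
    rw [Finset.sum_const, smul_eq_mul, mul_one, ← Set.ncard_eq_toFinset_card, card_W hdim, ← hqdef, hq16] at this
    omega
  -- a second basis vector of the trace-zero plane
  obtain ⟨y₀, hy₀, hy₀ind⟩ : ∃ y₀ : K, Tr y₀ = 0 ∧ ∀ μ : F, μ • (e : K) ≠ y₀ := by
    by_contra hall'
    push Not at hall'
    have hsub : W F K ⊆ {mk e} := by
      rintro g ⟨u, rfl, hu⟩
      obtain ⟨μ, hμ⟩ := hall' _ hu
      exact (mk_eq_mk.2 ⟨μ, fun h0 => u.ne_zero (by rw [← hμ, h0, zero_smul]), hμ.symm⟩).symm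
    have := Set.ncard_le_ncard hsub (Set.toFinite _)
    rw [Set.ncard_singleton, card_W hdim, ← hqdef, hq16] at this
    omega
  have hy₀ne : ∀ t : F, y₀ + t • (e : K) ≠ 0 := fun t h0 => hy₀ind (-t) (by
    rw [neg_smul, eq_comm, ← add_eq_zero_iff_eq_neg]; exact h0)
  set T := {t : F | (mk (F := F) e)⁻¹ * mk (Units.mk0 _ (hy₀ne t)) ∈ H F K} with hT
  have hTcard : T.ncard + 1 = num F K (mk e) := by
    let φ : F → Pt F K := fun t => mk (Units.mk0 _ (hy₀ne t))
    have hφ : Function.Injective φ := by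
      intro a b hab
      obtain ⟨μ, -, hμ⟩ := mk_eq_mk.1 hab
      simp only [Units.val_mk0] at hμ
      have hμ1 : μ = 1 := by
        by_contra hne
        refine hy₀ind ((μ * a - b) / (1 - μ)) ?_
        rw [div_eq_mul_inv, mul_comm, mul_smul, inv_smul_eq_iff₀ (sub_ne_zero.2 (Ne.symm hne))]
        simp only [Algebra.smul_def, map_sub, map_mul, map_one] at hμ ⊢
        linear_combination -hμ
      rw [hμ1, one_smul, add_right_inj] at hμ
      exact (smul_left_injective F e.ne_zero hμ).symm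
    have hnot : mk (F := F) e ∉ φ '' T := by
      rintro ⟨t, -, ht⟩
      obtain ⟨μ, hμ, he⟩ := mk_eq_mk.1 ht
      simp only [Units.val_mk0] at he
      refine hy₀ind ((1 - μ * t) / μ) ?_
      rw [div_eq_mul_inv, mul_comm, mul_smul, inv_smul_eq_iff₀ hμ, sub_smul, one_smul, mul_smul, sub_eq_iff_eq_add,
        ← smul_add]
      exact he
    have hset : {y ∈ W F K | (mk e)⁻¹ * y ∈ H F K} = insert (mk e) (φ '' T) := by
      ext g
      constructor
      · rintro ⟨⟨u, rfl, hu⟩, hcls⟩
        obtain ⟨a, b, hab⟩ := exists_comb hdim heW hy₀ hu e.ne_zero hy₀ind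
        rcases eq_or_ne b 0 with rfl | hb
        · rw [zero_smul, add_zero] at hab
          exact Or.inl (mk_eq_mk.2 ⟨a, fun h0 => u.ne_zero (by rw [← hab, h0, zero_smul]), hab.symm⟩).symm
        · have hg : φ (a / b) = mk u := mk_eq_mk.2 ⟨b, hb, by
            rw [Units.val_mk0, smul_add, smul_smul, mul_div_cancel₀ _ hb, add_comm]; exact hab.symm⟩
          refine Or.inr ⟨a / b, ?_, hg⟩
          show (mk e)⁻¹ * φ (a / b) ∈ H F K
          rw [hg]; exact hcls
      · rintro (rfl | ⟨t, ht, rfl⟩)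
        · exact ⟨mem_W.2 heW, by rw [inv_mul_cancel]; exact one_mem _⟩
        · exact ⟨mem_W.2 (by rw [Units.val_mk0, map_add, map_smul, hy₀, heW, smul_zero, add_zero]), ht⟩
    rw [num, hset, Set.ncard_insert_of_notMem hnot (Set.toFinite _), Set.ncard_image_of_injective _ hφ]
  -- the translations
  let τ : Bset A (w : K) →+ F :=
    { toFun := fun v => Tr (v.1 * y₀ / (e : K))
      map_zero' := by simp
      map_add' := fun u v => by simp [add_mul, add_div] }
  have hτinj : Function.Injective τ := by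
    rw [injective_iff_map_eq_zero]
    intro v hv
    have hv' : Tr (v.1 * y₀ / (e : K)) = 0 := hv
    by_contra hv0
    have hv1 : v.1 ≠ 0 := fun e0 => hv0 (Subtype.ext e0)
    by_cases hline : ∃ μ : F, μ • (e : K) = v.1
    · obtain ⟨μ, hμ⟩ := hline
      have hmem : μ ∈ lineSet (F := F) A (w : K) e := mem_lineSet.2 (hμ ▸ v.2)
      rw [hedir, AddSubgroup.mem_bot] at hmem
      exact hv1 (by rw [← hμ, hmem, zero_smul])
    · push Not at hline
      obtain ⟨μ, hμ⟩ := eq_scalar_of_trace (F := F) (u := y₀ / (e : K)) fun x hx => by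
        obtain ⟨a, b, rfl⟩ := exists_comb hdim heW (trace_Bset h v.2) hx e.ne_zero hline
        rw [mul_add, mul_smul_comm, mul_smul_comm, map_add, map_smul, map_smul, div_mul_cancel₀ _ e.ne_zero, hy₀,
          div_mul_eq_mul_div, mul_comm y₀, hv', smul_zero, smul_zero, add_zero]
      exact hy₀ind μ (by rw [← div_mul_cancel₀ y₀ e.ne_zero, hμ, smul_mul_assoc, one_mul])
  have hstable : ∀ t' ∈ T, ∀ d ∈ τ.range, t' + d ∈ T := by
    rintro t' ht' _ ⟨⟨_, hv⟩, rfl⟩
    obtain ⟨a, ha, rfl⟩ := mem_Bset.1 hv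
    set x : K := (y₀ + t' • (e : K)) * ((w : K) / (e : K)) with hx
    have hx0 : x ≠ 0 := mul_ne_zero (hy₀ne t') (div_ne_zero w.ne_zero e.ne_zero)
    set c : Kˣ := w * e⁻¹ with hc'
    have hcval : (c : K) = (w : K) / (e : K) := by
      rw [hc', Units.val_mul, Units.val_inv_eq_inv_val, div_eq_mul_inv]
    have hclass : ∀ (u : K) (hu : u ≠ 0), (mk (F := F) w)⁻¹ * mk (Units.mk0 u hu * c) = (mk e)⁻¹ * mk (Units.mk0 u hu) := by
      intro u hu
      rw [hc', map_mul, map_mul, map_inv]
      exact cancel_quot _ _ _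
    have hxw : (mk (F := F) w)⁻¹ * mk (Units.mk0 x hx0) ∈ H F K := by
      rw [show Units.mk0 x hx0 = Units.mk0 _ (hy₀ne t') * c from Units.ext (by rw [Units.val_mul, Units.val_mk0, Units.val_mk0, hcval]),
        hclass]
      exact ht'
    obtain ⟨b, hb, hb0⟩ : ∃ b ∈ A x, b ≠ 0 := by
      obtain ⟨v, hv', hv0⟩ : ∃ v ∈ Bset A (w : K), v ≠ 0 := ⟨_, hz, z.ne_zero⟩
      obtain ⟨b, hb, hbv⟩ := mem_Bset.1 (Bset_eq_of_mem h hxw hv')
      exact ⟨b, hb, fun e0 => hv0 (by rw [← hbv, e0, zero_mul])⟩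
    have hconj := h.conj ha hb
    have hd : τ ⟨a * (w : K), hv⟩ = Tr (a * x) := by
      show Tr (a * (w : K) * y₀ / (e : K)) = _
      rw [hx, show a * ((y₀ + t' • (e : K)) * ((w : K) / (e : K))) = a * (w : K) * y₀ / (e : K) + t' • (a * (w : K)) by
        have := e.ne_zero
        simp only [Algebra.smul_def]
        field_simp, map_add, map_smul, h.perp ha, smul_zero, add_zero]
    rw [← hd] at hconj
    set d := τ ⟨a * (w : K), hv⟩
    rcases eq_or_ne d 0 with e0 | hd0
    · rw [e0, add_zero]; exact ht'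
    have hne0 : b - Tr (b * (w : K)) • a ≠ 0 := by
      intro e0
      rw [sub_eq_zero] at e0
      have h1 := h.perp hb
      rw [e0, smul_mul_assoc, map_smul, smul_eq_zero, ← hd] at h1
      rcases h1 with h1 | h1
      · exact hb0 (by rw [e0, h1, zero_smul])
      · exact hd0 h1
    have hx' : x + d • (w : K) = (y₀ + (t' + d) • (e : K)) * ((w : K) / (e : K)) := by
      have := e.ne_zero
      rw [hx]
      simp only [Algebra.smul_def, map_add]
      field_simp
      ring
    rw [hx'] at hconj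
    have hne1 : (y₀ + (t' + d) • (e : K)) * ((w : K) / (e : K)) ≠ 0 :=
      mul_ne_zero (hy₀ne _) (div_ne_zero w.ne_zero e.ne_zero)
    have hB' : Bset A ((Units.mk0 _ hne1 : Kˣ) : K) ≠ ⊥ := fun e0 => by
      have hm : (b - Tr (b * (w : K)) • a) * ((y₀ + (t' + d) • (e : K)) * ((w : K) / (e : K))) ∈
          Bset A ((Units.mk0 _ hne1 : Kˣ) : K) := mem_Bset.2 ⟨_, hconj, rfl⟩
      rw [e0, AddSubgroup.mem_bot] at hm
      exact mul_ne_zero hne0 hne1 hm
    have := hone _ hB'
    rw [show Units.mk0 _ hne1 = Units.mk0 _ (hy₀ne (t' + d)) * c from Units.ext (by rw [Units.val_mul, Units.val_mk0, Units.val_mk0, hcval]),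
      hclass] at this
    exact this
  have hdvd := card_stable_dvd τ.range T hstable
  rw [← Nat.card_congr (AddMonoidHom.ofInjective hτinj).toEquiv] at hdvd
  -- four divides the number of translations
  have h4 : 4 ∣ Nat.card (Bset A (w : K)) := by
    have hdvdK := AddSubgroup.card_addSubgroup_dvd_card (Bset A (w : K))
    rw [Module.natCard_eq_pow_finrank (K := F) (V := K), hdim, ← hqdef, hq16] at hdvdK
    obtain ⟨i, -, hi⟩ := (Nat.dvd_prime_pow Nat.prime_two).1 (show Nat.card (Bset A (w : K)) ∣ 2 ^ 12 by simpa using hdvdK)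
    have h4le : 4 ≤ 2 ^ i := by
      rw [← hi]
      have := hcount
      rw [hn3] at this
      rcases ht13 with rfl | rfl <;> omega
    obtain ⟨j, rfl⟩ : ∃ j, i = j + 2 := ⟨i - 2, by
      by_contra hh
      have : i < 2 := by omega
      interval_cases i <;> omega⟩
    exact ⟨2 ^ j, by rw [hi, pow_add]; ring⟩
  obtain ⟨b', c', h1, h2⟩ := num_cases hdim hc (mk e)
  rw [← hqdef, hq16] at h1 h2
  have h37 : num F K (mk e) = 3 ∨ num F K (mk e) = 7 := sixteen_values h1 h2
  have := h4.trans hdvd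
  omega

end CfsgLib.Classical.GeoThree.Singer
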